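import Cfsg.Agent.Lib.Transfer.SpFourLocal.Maps
import Cfsg.Agent.Lib.Classical.PSpRootGroups

/-!
The centralizer of a transvection in `PSp₄(F)`: Siegel radical, translations and torus.
-/

set_option autoImplicit false
set_option linter.unusedSectionVars false

namespace Cfsg.Agent.Transfer.SpFourLocal

open Matrix Subgroup Cfsg.Agent.Classical Cfsg.Agent.Classical.PSpAut

variable {F : Type*} [Field F]

local notation "Sp4" => Matrix.symplecticGroup (Fin 2) F
local notation "M4" => Matrix (Fin 2 ⊕ Fin 2) (Fin 2 ⊕ Fin 2) F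
local notation "M2" => Matrix (Fin 2) (Fin 2) F
local notation "PS" => PSp 2 F
local notation "π" => spToPSp 2 F

/-- A symmetric matrix from its coordinates. -/
def symM (v : V F) : M2 := !![v.1, v.2.1; v.2.1, v.2.2]

/-- The Siegel radical. -/
def unipM (v : V F) : M4 := Matrix.fromBlocks 1 (symM v) 0 1

/-- The relevant part of the Levi factor. -/
def leviM (c : F) (t : Fˣ) : M4 :=
  Matrix.fromBlocks !![1, c; 0, (t : F)] 0 0 !![1, 0; -(c * ((t⁻¹ : Fˣ) : F)), ((t⁻¹ : Fˣ) : F)]

theorem symM_transpose (v : V F) : (symM v)ᵀ = symM v := by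
  ext i j; fin_cases i <;> fin_cases j <;> simp [symM]

theorem symM_add (v w : V F) : symM (v + w) = symM v + symM w := by
  ext i j; fin_cases i <;> fin_cases j <;> simp [symM]

theorem symM_injective : Function.Injective (symM (F := F)) := fun v w e => by
  have h00 := congrFun (congrFun e 0) 0
  have h01 := congrFun (congrFun e 0) 1
  have h11 := congrFun (congrFun e 1) 1
  simp [symM] at h00 h01 h11
  exact Prod.ext h00 (Prod.ext h01 h11)

theorem unipM_mem (v : V F) : unipM v ∈ Matrix.symplecticGroup (Fin 2) F := by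
  rw [SymplecticGroup.mem_iff, unipM, Matrix.J, Matrix.fromBlocks_transpose, Matrix.fromBlocks_multiply,
    Matrix.fromBlocks_multiply, symM_transpose]
  simp

theorem leviM_mem (c : F) (t : Fˣ) : leviM c t ∈ Matrix.symplecticGroup (Fin 2) F := by
  rw [SymplecticGroup.mem_iff, leviM, Matrix.J, Matrix.fromBlocks_transpose, Matrix.fromBlocks_multiply,
    Matrix.fromBlocks_multiply, Matrix.fromBlocks_inj]
  refine ⟨by simp, ?_, ?_, by simp⟩ <;>
    (ext i j; fin_cases i <;> fin_cases j <;>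
      simp [Matrix.mul_apply, Matrix.vecMul, dotProduct, Fin.sum_univ_two] <;> ring)

theorem unipM_add (v w : V F) : unipM (v + w) = unipM v * unipM w := by
  rw [unipM, unipM, unipM, Matrix.fromBlocks_multiply, symM_add]
  simp [add_comm]

theorem leviM_mul (c d : F) (s t : Fˣ) : leviM c s * leviM d t = leviM (d + c * t) (s * t) := by
  rw [leviM, leviM, leviM, Matrix.fromBlocks_multiply, Matrix.fromBlocks_inj]
  refine ⟨?_, by simp, by simp, ?_⟩ <;>
    (ext i j; fin_cases i <;> fin_cases j <;> simp [Matrix.mul_apply, Fin.sum_univ_two] <;> field_simp <;> ring)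

theorem leviM_one : leviM (0 : F) 1 = 1 := by
  rw [leviM, ← Matrix.fromBlocks_one, Matrix.fromBlocks_inj]
  refine ⟨?_, rfl, rfl, ?_⟩ <;> (ext i j; fin_cases i <;> fin_cases j <;> simp)

/-- The Siegel radical as a homomorphism. -/
noncomputable def uS : Multiplicative (V F) →* Sp4 where
  toFun v := ⟨unipM v.toAdd, unipM_mem _⟩
  map_one' := Subtype.ext (by
    show unipM (0 : V F) = 1
    rw [unipM, show symM (0 : V F) = 0 by ext i j; fin_cases i <;> fin_cases j <;> simp [symM],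
      Matrix.fromBlocks_one])
  map_mul' v w := Subtype.ext (unipM_add _ _)

/-- The translations. -/
noncomputable def xS : Multiplicative F →* Sp4 where
  toFun c := ⟨leviM c.toAdd 1, leviM_mem _ _⟩
  map_one' := Subtype.ext leviM_one
  map_mul' c d := Subtype.ext (by
    show leviM (c.toAdd + d.toAdd) 1 = leviM c.toAdd 1 * leviM d.toAdd 1
    rw [leviM_mul, Units.val_one, mul_one, mul_one, add_comm])

/-- The torus. -/
noncomputable def tS : Fˣ →* Sp4 where
  toFun t := ⟨leviM 0 t, leviM_mem _ _⟩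
  map_one' := Subtype.ext leviM_one
  map_mul' s t := Subtype.ext (by
    show leviM 0 (s * t) = leviM 0 s * leviM 0 t
    rw [leviM_mul, zero_mul, add_zero])

open Multiplicative (ofAdd toAdd)

theorem uS_coe (v : V F) : ((uS (ofAdd v) : Sp4) : M4) = unipM v := rfl

theorem xS_conj (c : F) (v : V F) :
    xS (ofAdd c) * uS (ofAdd v) = uS (ofAdd (Xp c v)) * xS (ofAdd c) := by
  refine Subtype.ext ?_
  show leviM c 1 * unipM v = unipM (Xp c v) * leviM c 1
  obtain ⟨z, a, b⟩ := v
  rw [leviM, unipM, unipM, Matrix.fromBlocks_multiply, Matrix.fromBlocks_multiply, Matrix.fromBlocks_inj]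
  refine ⟨by simp, ?_, by simp, by simp⟩
  simp only [Matrix.mul_one, Matrix.one_mul, Matrix.mul_zero, Matrix.zero_mul, add_zero, zero_add]
  ext i j; fin_cases i <;> fin_cases j <;>
    simp [Matrix.mul_apply, Fin.sum_univ_two, symM, Xp_apply] <;> ring

theorem tS_conj (t : Fˣ) (v : V F) : tS t * uS (ofAdd v) = uS (ofAdd (Dp 1 t v)) * tS t := by
  refine Subtype.ext ?_
  show leviM 0 t * unipM v = unipM (Dp 1 t v) * leviM 0 t
  obtain ⟨z, a, b⟩ := v
  rw [leviM, unipM, unipM, Matrix.fromBlocks_multiply, Matrix.fromBlocks_multiply, Matrix.fromBlocks_inj]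
  refine ⟨by simp, ?_, by simp, by simp⟩
  simp only [Matrix.mul_one, Matrix.one_mul, Matrix.mul_zero, Matrix.zero_mul, add_zero, zero_add]
  ext i j; fin_cases i <;> fin_cases j <;>
    simp [Matrix.mul_apply, Fin.sum_univ_two, symM, Dp_apply] <;> field_simp

/-- The first basis vector. -/
def e₀ : Fin 2 ⊕ Fin 2 → F := Pi.single (Sum.inl 0) 1

theorem e₀_ne : (e₀ : Fin 2 ⊕ Fin 2 → F) ≠ 0 := fun e => by
  simpa [e₀] using congrFun e (Sum.inl 0)

theorem sympTv_e₀ (z : F) : sympTv (e₀ (F := F)) z = uS (ofAdd ((z, 0, 0) : V F)) := by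
  refine Subtype.ext (Matrix.ext_iff_mulVec.2 fun y => ?_)
  rw [sympTv_apply, e₀, sympForm_single_inl, uS_coe, unipM]
  funext i
  rcases i with i | i <;> fin_cases i <;>
    simp [symM, Matrix.mulVec, dotProduct, Fintype.sum_sum_type, Fin.sum_univ_two, Matrix.fromBlocks]

/-- The image of the Siegel radical. -/
noncomputable def muP : Multiplicative (V F) →* PS := (π).comp uS

/-- The image of the translations. -/
noncomputable def xiP : Multiplicative F →* PS := (π).comp xS

/-- The image of the torus. -/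
noncomputable def tauP : Fˣ →* PS := (π).comp tS

theorem xiP_conj (c : F) (v : V F) :
    xiP (ofAdd c) * muP (ofAdd v) = muP (ofAdd (Xp c v)) * xiP (ofAdd c) := by
  simp only [xiP, muP, MonoidHom.comp_apply, ← map_mul, xS_conj]

theorem tauP_conj (t : Fˣ) (v : V F) :
    tauP t * muP (ofAdd v) = muP (ofAdd (Dp 1 t v)) * tauP t := by
  simp only [tauP, muP, MonoidHom.comp_apply, ← map_mul, tS_conj]

theorem muP_injective : Function.Injective (muP (F := F)) := by
  rw [injective_iff_map_eq_one]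
  intro v hv
  obtain ⟨l, -, hl⟩ := (pi_eq_one_iff two_ne_zero).1 (hv : π (uS v) = 1)
  have h00 := congrFun (congrFun hl (Sum.inl 0)) (Sum.inl 0)
  rw [show (uS v : Sp4) = uS (ofAdd (toAdd v)) from rfl, uS_coe, unipM] at h00 hl
  simp at h00
  rw [← h00, one_smul, ← Matrix.fromBlocks_one, Matrix.fromBlocks_inj] at hl
  have h2 : symM (toAdd v) = symM (0 : V F) := by
    rw [hl.2.1]; ext i j; fin_cases i <;> fin_cases j <;> simp [symM]
  exact toAdd.injective (symM_injective h2)

theorem exists_pi (g : PS) : ∃ s : Sp4, π s = g := QuotientGroup.mk_surjective g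

/-- An element centralising a transvection has a representative fixing the vector. -/
theorem rep_fixing {c : F} (hc : c ≠ 0) {g : PS}
    (h : g * muP (ofAdd ((c, 0, 0) : V F)) = muP (ofAdd ((c, 0, 0) : V F)) * g) :
    ∃ s : Sp4, π s = g ∧ (s : M4) *ᵥ e₀ = e₀ := by
  obtain ⟨s, rfl⟩ := exists_pi g
  simp only [muP, MonoidHom.comp_apply, ← sympTv_e₀] at h
  have he : π (sympTv e₀ c) = π (sympTv ((s : M4) *ᵥ e₀) c) := by
    rw [← sympTv_conj, map_mul, map_mul, map_inv, h, mul_inv_cancel_right]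
  have e := sympTv_eq_of_pi_eq e₀_ne he
  obtain ⟨a, ha⟩ := exists_smul_of_tv_eq e₀_ne hc e
  have ha0 : a ≠ 0 := fun e0 => e₀_ne (by rw [ha, e0, zero_smul])
  have hse : (s : M4) *ᵥ e₀ = a⁻¹ • e₀ := by
    conv_rhs => rw [ha, smul_smul, inv_mul_cancel₀ ha0, one_smul]
  rw [hse, sympTv_smul] at e
  have ha2 := sympTv_coeff_inj e₀_ne e
  have : a⁻¹ * a⁻¹ = 1 := mul_right_cancel₀ hc (by rw [one_mul, ← sq, ← ha2])
  rcases mul_self_eq_one_iff.1 this with h1 | h1
  · exact ⟨s, rfl, by rw [hse, h1, one_smul]⟩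
  · refine ⟨sympNegOne 2 F * s, ?_, ?_⟩
    · rw [map_mul, mul_eq_right]
      exact (pi_eq_one_iff two_ne_zero).2 ⟨-1, by ring, by simp [sympNegOne]⟩
    · rw [Submonoid.coe_mul, ← Matrix.mulVec_mulVec, hse, h1]
      simp [sympNegOne, Matrix.neg_mulVec]

/-- The parabolic: fixing the vector and normalising the radical. -/
theorem normal_form_fixing {s : Sp4} (hs : (s : M4) *ᵥ e₀ = e₀) (h2 : (2 : F) ≠ 0)
    (hn : ∃ w : V F, π s * muP (ofAdd ((1, 0, 1) : V F)) = muP (ofAdd w) * π s) :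
    ∃ (v : V F) (c : F) (t : Fˣ), π s = muP (ofAdd v) * xiP (ofAdd c) * tauP t := by
  obtain ⟨w, hw⟩ := hn
  simp only [muP, MonoidHom.comp_apply, ← map_mul] at hw
  have hk : π ((uS (ofAdd w) * s)⁻¹ * (s * uS (ofAdd ((1, 0, 1) : V F)))) = 1 := by
    rw [map_mul, map_inv, hw, inv_mul_cancel]
  obtain ⟨l, hl2, hl⟩ := (pi_eq_one_iff two_ne_zero).1 hk
  have he : (s : M4) * unipM ((1 : F), (0 : F), (1 : F)) = l • (unipM w * (s : M4)) := by
    have := congrArg (fun X : M4 => ((uS (ofAdd w) * s : Sp4) : M4) * X) hl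
    simp only [← Submonoid.coe_mul, mul_inv_cancel_left] at this
    simp only [Matrix.mul_smul, Matrix.mul_one, Submonoid.coe_mul, uS_coe] at this
    exact this
  obtain ⟨A, B, C, D, hM⟩ : ∃ A B C D, (s : M4) = Matrix.fromBlocks A B C D :=
    ⟨_, _, _, _, (Matrix.fromBlocks_toBlocks _).symm⟩
  have hS1 : symM ((1 : F), (0 : F), (1 : F)) = 1 := by
    ext i j; fin_cases i <;> fin_cases j <;> simp [symM]
  rw [hM, unipM, unipM, hS1, Matrix.fromBlocks_multiply, Matrix.fromBlocks_multiply,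
    Matrix.fromBlocks_smul, Matrix.fromBlocks_inj] at he
  obtain ⟨-, -, h21, h22⟩ := he
  simp at h21 h22
  have hC : C = 0 := by
    rcases mul_self_eq_one_iff.1 (show l * l = 1 by rw [← sq]; exact hl2) with e | e <;> subst e
    · simpa using h22
    · ext i j
      have := congrFun (congrFun h21 i) j
      simp at this
      exact mul_left_cancel₀ h2 (by rw [Matrix.zero_apply, mul_zero]; linear_combination this)
  subst hC
  have hsp := s.2
  rw [SymplecticGroup.mem_iff, hM, Matrix.J, Matrix.fromBlocks_transpose, Matrix.fromBlocks_multiply,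
    Matrix.fromBlocks_multiply, Matrix.fromBlocks_inj] at hsp
  obtain ⟨hsym, -, hDA, -⟩ := hsp
  simp at hsym hDA
  have hA00 : A 0 0 = 1 := by
    have := congrFun hs (Sum.inl 0)
    rw [hM] at this
    simpa [e₀] using this
  have hA10 : A 1 0 = 0 := by
    have := congrFun hs (Sum.inl 1)
    rw [hM] at this
    simpa [e₀] using this
  have hAeq : A = !![1, A 0 1; 0, A 1 1] := by
    ext i j; fin_cases i <;> fin_cases j <;> simp [hA00, hA10]
  have hA11 : A 1 1 ≠ 0 := by
    intro e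
    have := congrArg Matrix.det hDA
    rw [Matrix.det_mul, Matrix.det_transpose, hAeq, e, Matrix.det_fin_two (!![1, A 0 1; 0, (0 : F)])] at this
    simp at this
  set t := Units.mk0 (A 1 1) hA11
  have hAtD : Aᵀ * D = 1 := mul_eq_one_comm.1 hDA
  have hD : D = !![1, 0; -(A 0 1 * ((t⁻¹ : Fˣ) : F)), ((t⁻¹ : Fˣ) : F)] := by
    have e := hAtD
    rw [hAeq] at e
    have e00 := congrFun (congrFun e 0) 0
    have e01 := congrFun (congrFun e 0) 1
    have e10 := congrFun (congrFun e 1) 0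
    have e11 := congrFun (congrFun e 1) 1
    simp [Matrix.mul_apply, Fin.sum_univ_two] at e00 e01 e10 e11
    ext i j; fin_cases i <;> fin_cases j <;> simp [t, e00, e01]
    · rw [e00, mul_one] at e10
      field_simp
      linear_combination e10
    · rw [e01, mul_zero, zero_add] at e11
      field_simp
      linear_combination e11
  obtain ⟨v, hv⟩ : ∃ v : V F, symM v = B * Aᵀ := by
    refine ⟨((B * Aᵀ) 0 0, (B * Aᵀ) 0 1, (B * Aᵀ) 1 1), ?_⟩
    have hT : (B * Aᵀ)ᵀ = B * Aᵀ := by
      rw [Matrix.transpose_mul, Matrix.transpose_transpose]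
      exact (sub_eq_zero.1 (by rw [← hsym]; simp [sub_eq_add_neg])).symm
    ext i j; fin_cases i <;> fin_cases j <;> simp [symM]
    exact (congrFun (congrFun hT 1) 0)
  refine ⟨v, A 0 1 / A 1 1, t, ?_⟩
  simp only [muP, xiP, tauP, MonoidHom.comp_apply, ← map_mul]
  congr 1
  refine Subtype.ext ?_
  show (s : M4) = unipM v * leviM (A 0 1 / A 1 1) 1 * leviM 0 t
  rw [mul_assoc, leviM_mul, zero_add, one_mul, show A 0 1 / A 1 1 * (t : F) = A 0 1 by simp [t, hA11],
    unipM, leviM, Matrix.fromBlocks_multiply, hv, hM, Matrix.fromBlocks_inj]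
  refine ⟨by simpa [t] using hAeq, ?_, by simp, by simpa using hD⟩
  simp only [Matrix.one_mul, zero_add]
  rw [← hD, Matrix.mul_assoc, hAtD, Matrix.mul_one]

/-- The radical meets the translations trivially. -/
theorem muP_xiP_inj {v w : V F} {c d : F}
    (e : muP (ofAdd v) * xiP (ofAdd c) = muP (ofAdd w) * xiP (ofAdd d)) : v = w ∧ c = d := by
  have h0 : muP (ofAdd (v - w)) * xiP (ofAdd (c - d)) = 1 := by
    rw [sub_eq_neg_add v w, ofAdd_add, map_mul, ofAdd_neg, map_inv, sub_eq_add_neg c d, ofAdd_add,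
      map_mul, ofAdd_neg, map_inv]
    calc (muP (ofAdd w))⁻¹ * muP (ofAdd v) * (xiP (ofAdd c) * (xiP (ofAdd d))⁻¹)
        = (muP (ofAdd w))⁻¹ * (muP (ofAdd v) * xiP (ofAdd c)) * (xiP (ofAdd d))⁻¹ := by group
      _ = 1 := by rw [e]; group
  simp only [muP, xiP, MonoidHom.comp_apply, ← map_mul] at h0
  obtain ⟨l, -, hl⟩ := (pi_eq_one_iff two_ne_zero).1 h0
  change unipM (v - w) * leviM (c - d) 1 = l • (1 : M4) at hl
  have h00 := congrFun (congrFun hl (Sum.inl 0)) (Sum.inl 0)
  simp [unipM, leviM, Matrix.fromBlocks_multiply] at h00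
  have h01 := congrFun (congrFun hl (Sum.inl 0)) (Sum.inl 1)
  simp [unipM, leviM, Matrix.fromBlocks_multiply, Matrix.one_apply] at h01
  rw [sub_eq_zero] at h01
  subst h01
  rw [sub_self, show leviM (0 : F) 1 = 1 from leviM_one, mul_one, ← h00, one_smul, unipM,
    ← Matrix.fromBlocks_one, Matrix.fromBlocks_inj] at hl
  have h2 : symM (v - w) = symM (0 : V F) := by
    rw [hl.2.1]; ext i j; fin_cases i <;> fin_cases j <;> simp [symM]
  exact ⟨sub_eq_zero.1 (symM_injective h2), rfl⟩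

/-- The unipotent radical of the Borel subgroup. -/
noncomputable def uU : Subgroup PS where
  carrier := {g | ∃ v c, g = muP (ofAdd v) * xiP (ofAdd c)}
  one_mem' := ⟨0, 0, by simp⟩
  mul_mem' := by
    rintro _ _ ⟨v, c, rfl⟩ ⟨w, d, rfl⟩
    refine ⟨v + Xp c w, c + d, ?_⟩
    rw [ofAdd_add, map_mul, ofAdd_add, map_mul, mul_assoc, ← mul_assoc (xiP (ofAdd c)), xiP_conj]
    simp only [mul_assoc]
  inv_mem' := by
    rintro _ ⟨v, c, rfl⟩
    refine ⟨Xp (-c) (-v), -c, ?_⟩
    rw [← xiP_conj, ofAdd_neg, ofAdd_neg, map_inv, map_inv, _root_.mul_inv_rev]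

theorem muP_mem_uU (v : V F) : muP (ofAdd v) ∈ uU (F := F) := ⟨v, 0, by simp⟩

theorem xiP_mem_uU (c : F) : xiP (ofAdd c) ∈ uU (F := F) :=
  ⟨0, c, by rw [show (ofAdd (0 : V F)) = 1 from rfl, map_one, one_mul]⟩

theorem card_uU : Nat.card (uU (F := F)) = Nat.card F ^ 4 := by
  rw [show Nat.card F ^ 4 = Nat.card (V F × F) by simp [Nat.card_prod, pow_succ, mul_assoc]]
  refine (Nat.card_eq_of_bijective (fun x : V F × F =>
    (⟨muP (ofAdd x.1) * xiP (ofAdd x.2), x.1, x.2, rfl⟩ : uU (F := F))) ⟨?_, ?_⟩).symm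
  · intro x y e
    obtain ⟨h1, h2⟩ := muP_xiP_inj (congrArg Subtype.val e)
    exact Prod.ext h1 h2
  · rintro ⟨_, v, c, rfl⟩
    exact ⟨(v, c), rfl⟩

theorem centralizer_mem {c : F} (hc : c ≠ 0) (h2 : (2 : F) ≠ 0) {g : PS}
    (hg : g * muP (ofAdd ((c, 0, 0) : V F)) = muP (ofAdd ((c, 0, 0) : V F)) * g)
    (hn : ∃ w : V F, g * muP (ofAdd ((1, 0, 1) : V F)) = muP (ofAdd w) * g) :
    ∃ (v : V F) (c : F) (t : Fˣ), g = muP (ofAdd v) * xiP (ofAdd c) * tauP t := by
  obtain ⟨s, rfl, hs⟩ := rep_fixing hc hg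
  exact normal_form_fixing hs h2 hn

theorem central_in_centralizer {c : F} (hc : c ≠ 0) (z : F) {g : PS}
    (hg : g * muP (ofAdd ((c, 0, 0) : V F)) = muP (ofAdd ((c, 0, 0) : V F)) * g) :
    g * muP (ofAdd ((z, 0, 0) : V F)) = muP (ofAdd ((z, 0, 0) : V F)) * g := by
  obtain ⟨s, rfl, hs⟩ := rep_fixing hc hg
  simp only [muP, MonoidHom.comp_apply, ← sympTv_e₀, ← map_mul]
  congr 1
  have := sympTv_conj s (e₀ (F := F)) z
  rw [hs] at this
  exact mul_inv_eq_iff_eq_mul.1 this

/-- An abelian subgroup of order `q³` of the Borel unipotent radical is the Siegel radical. -/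
theorem eq_radical [Finite F] (h2 : (2 : F) ≠ 0) (A : Subgroup PS) (hA : A ≤ uU) (hc : IsMulCommutative A)
    (hcard : Nat.card A = Nat.card F ^ 3) : A = (muP (F := F)).range := by
  have hq : 2 ≤ Nat.card F := Finite.one_lt_card
  have hle : A ≤ (muP (F := F)).range := by
    intro a₀ ha₀
    obtain ⟨v₀, c₀, rfl⟩ := hA ha₀
    rcases eq_or_ne c₀ 0 with rfl | hc₀
    · exact ⟨ofAdd v₀, by simp⟩
    exfalso
    have key : ∀ a : A, ∃ v c, (a : PS) = muP (ofAdd v) * xiP (ofAdd c) ∧
        v.2.2 = c * v₀.2.2 / c₀ ∧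
        v.2.1 = (2 * c * v₀.2.1 + c ^ 2 * v₀.2.2 - c₀ ^ 2 * (c * v₀.2.2 / c₀)) / (2 * c₀) := by
      intro a
      obtain ⟨v, c, e⟩ := hA a.2
      have hcomm : (a : PS) * (muP (ofAdd v₀) * xiP (ofAdd c₀)) =
          (muP (ofAdd v₀) * xiP (ofAdd c₀)) * a :=
        congrArg Subtype.val (hc.is_comm.comm a ⟨_, ha₀⟩)
      rw [e] at hcomm
      have hL : ∀ (p q : V F) (r s : F), muP (ofAdd p) * xiP (ofAdd r) * (muP (ofAdd q) * xiP (ofAdd s)) =
          muP (ofAdd (p + Xp r q)) * xiP (ofAdd (r + s)) := by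
        intro p q r s
        rw [ofAdd_add, map_mul, ofAdd_add, map_mul, mul_assoc, ← mul_assoc (xiP (ofAdd r)), xiP_conj]
        simp only [mul_assoc]
      rw [hL, hL] at hcomm
      obtain ⟨hv, -⟩ := muP_xiP_inj hcomm
      obtain ⟨z, x, b⟩ := v
      obtain ⟨z₀, x₀, b₀⟩ := v₀
      simp only [Xp_apply, Prod.mk_add_mk, Prod.mk.injEq] at hv
      obtain ⟨e1, e2, -⟩ := hv
      have hb : b = c * b₀ / c₀ := by
        rw [eq_div_iff hc₀]; linear_combination -e2
      refine ⟨(z, x, b), c, e, hb, ?_⟩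
      show x = _
      rw [eq_div_iff (mul_ne_zero h2 hc₀), ← hb]
      linear_combination -e1
    choose fv fc hfe hfb hfa using key
    have hinj : Function.Injective fun a : A => ((fv a).1, fc a) := by
      intro a b e
      simp only [Prod.mk.injEq] at e
      refine Subtype.ext ?_
      rw [hfe a, hfe b, e.2, Prod.ext e.1 (Prod.ext (show (fv a).2.1 = (fv b).2.1 by rw [hfa, hfa, e.2])
        (show (fv a).2.2 = (fv b).2.2 by rw [hfb, hfb, e.2]))]
    have := Nat.card_le_card_of_injective _ hinj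
    rw [hcard, Nat.card_prod, ← sq] at this
    exact absurd this (by
      rw [not_le]; exact Nat.pow_lt_pow_right hq (by norm_num))
  refine Subgroup.eq_of_le_of_card_ge hle ?_
  rw [hcard, ← Nat.card_congr (MonoidHom.ofInjective (muP_injective (F := F))).toEquiv]
  rw [show Nat.card (Multiplicative (V F)) = Nat.card (V F) from rfl]
  simp [Nat.card_prod, pow_succ, mul_assoc]

end Cfsg.Agent.Transfer.SpFourLocal
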