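import Cfsg.Agent.Lib.Transfer.SpFourLocal.Local
import Cfsg.Agent.Lib.Transfer.SpFourLocal.Model

/-!
From the centralizer of a `p`-central element of `PSp₄(q)` to the data.
-/

set_option autoImplicit false
set_option linter.unusedSectionVars false

namespace Cfsg.Agent.Transfer.SpFourLocal

open Subgroup Cfsg.Agent.Classical
open Multiplicative (ofAdd toAdd)

variable {F : Type*} [Field F]

local notation "PS" => PSp 2 F

theorem uU_isPGroup [Finite F] {p n : ℕ} (hcard : Nat.card F = p ^ n) : IsPGroup p (uU (F := F)) :=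
  IsPGroup.of_card (n := n * 4) (by rw [card_uU, hcard, pow_mul])

/-- A `p`-central element of order `p` is conjugate to a transvection. -/
theorem exists_conj_transvection [Finite F] {p n : ℕ} [Fact p.Prime] (h2 : (2 : F) ≠ 0)
    (hcard : Nat.card F = p ^ n) {x : PS} (hx : orderOf x = p) (Px : Sylow p PS) (hxP : x ∈ (Px : Subgroup PS))
    (hxc : ∀ y ∈ (Px : Subgroup PS), y * x = x * y) :
    ∃ (g : PS) (c : F), c ≠ 0 ∧ g * x * g⁻¹ = muP (ofAdd ((c, 0, 0) : V F)) := by
  obtain ⟨S, hS⟩ := (uU_isPGroup hcard).exists_le_sylow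
  obtain ⟨g, hg⟩ := MulAction.exists_smul_eq PS Px S
  have hcomm : ∀ u ∈ uU (F := F), u * (g * x * g⁻¹) = g * x * g⁻¹ * u := by
    intro u hu
    have := hS hu
    rw [← hg, Sylow.coe_subgroup_smul] at this
    obtain ⟨y, hy, rfl⟩ := this
    show g * y * g⁻¹ * (g * x * g⁻¹) = g * x * g⁻¹ * (g * y * g⁻¹)
    rw [show g * y * g⁻¹ * (g * x * g⁻¹) = g * (y * x) * g⁻¹ by group, hxc y hy]; group
  set x' := g * x * g⁻¹
  obtain ⟨v, c, t, e⟩ := centralizer_mem (c := (1 : F)) one_ne_zero h2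
    (hcomm _ (muP_mem_uU _)).symm ⟨_, (hcomm _ (muP_mem_uU _)).symm⟩
  have hact : ∀ w : V F, Xp c (Dp 1 t w) = w := by
    intro w
    have h1 : x' * muP (ofAdd w) = muP (ofAdd (Xp c (Dp 1 t w))) * x' := by
      rw [e]
      simp only [mul_assoc]
      rw [tauP_conj, ← mul_assoc (xiP _) (muP _), xiP_conj, ← mul_assoc (muP (ofAdd v)),
        ← mul_assoc (muP (ofAdd v)), ← mul_assoc (muP (ofAdd v)), ← map_mul muP,
        mul_comm (ofAdd v), map_mul muP]
      simp only [mul_assoc]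
    rw [← hcomm _ (muP_mem_uU w)] at h1
    exact (ofAdd.injective (muP_injective (mul_right_cancel h1))).symm
  have h1 := hact ((0 : F), (1 : F), (0 : F))
  simp only [Dp_apply, Xp_apply, Units.val_one, Prod.mk.injEq] at h1
  have ht : t = 1 := Units.ext (by simpa using h1.2.1)
  subst ht
  have hc : c = 0 := by simpa [h2] using h1.1
  subst hc
  simp only [ofAdd_zero, map_one, mul_one] at e
  have h3 := hcomm _ (xiP_mem_uU (1 : F))
  rw [e, xiP_conj] at h3
  have h4 : Xp 1 v = v := ofAdd.injective (muP_injective (mul_right_cancel h3))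
  obtain ⟨z, a, b⟩ := v
  obtain ⟨rfl, rfl⟩ := (Xp_fix_iff h2 one_ne_zero _ _ _).1 h4
  refine ⟨g, z, fun hz => ?_, e⟩
  subst hz
  rw [show ofAdd (((0 : F), (0 : F), (0 : F)) : V F) = 1 from rfl, map_one] at e
  rw [conj_eq_one_iff.1 e, orderOf_one] at hx
  exact (Nat.Prime.one_lt Fact.out).ne hx

variable (F) in
/-- The centralizer of the standard transvection. -/
abbrev cenT (c : F) : Subgroup PS := Subgroup.centralizer ({muP (ofAdd ((c, 0, 0) : V F))} : Set PS)

theorem mem_cenT_mu (c : F) (v : V F) : muP (ofAdd v) ∈ cenT F c := by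
  rw [Subgroup.mem_centralizer_singleton_iff, ← map_mul muP, ← map_mul muP, mul_comm (ofAdd v)]

theorem mem_cenT_xi (c d : F) : xiP (ofAdd d) ∈ cenT F c := by
  rw [Subgroup.mem_centralizer_singleton_iff, xiP_conj]
  simp

theorem mem_cenT_tau (c : F) (t : Fˣ) : tauP t ∈ cenT F c := by
  rw [Subgroup.mem_centralizer_singleton_iff, tauP_conj]
  simp

theorem uU_le_cenT (c : F) : uU (F := F) ≤ cenT F c := by
  rintro _ ⟨v, d, rfl⟩
  exact mul_mem (mem_cenT_mu c v) (mem_cenT_xi c d)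

/-- `uU` is a Sylow subgroup of the centralizer. -/
theorem exists_sylow_cenT [Finite F] {p n : ℕ} [Fact p.Prime] (hn : 1 ≤ n) (h2 : (2 : F) ≠ 0)
    (hcard : Nat.card F = p ^ n) {c : F} (hc : c ≠ 0) :
    ∃ S : Sylow p (cenT F c), (S : Subgroup (cenT F c)) = (uU (F := F)).subgroupOf (cenT F c) := by
  set U := (uU (F := F)).subgroupOf (cenT F c) with hU
  have hUp : IsPGroup p U :=
    IsPGroup.of_card (n := n * 4) (by
      rw [hU, Nat.card_congr (Subgroup.subgroupOfEquivOfLe (uU_le_cenT c)).toEquiv, card_uU, hcard, pow_mul])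
  obtain ⟨S, hS⟩ := hUp.exists_le_sylow
  refine ⟨S, ?_⟩
  by_contra hne
  haveI : Group.IsNilpotent (S : Subgroup (cenT F c)) := S.isPGroup'.isNilpotent
  have hlt : U.subgroupOf S < ⊤ := lt_top_iff_ne_top.2 fun e =>
    hne (le_antisymm (Subgroup.subgroupOf_eq_top.1 e) hS)
  obtain ⟨g, hgN, hgU⟩ := SetLike.exists_of_lt (normalizerCondition_of_isNilpotent _ hlt)
  set x : PS := ((g : cenT F c) : PS) with hx
  have hconj : ∀ w : V F, x * muP (ofAdd w) * x⁻¹ ∈ uU (F := F) := by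
    intro w
    have hwS : (⟨_, mem_cenT_mu c w⟩ : cenT F c) ∈ (S : Subgroup (cenT F c)) := hS (muP_mem_uU w)
    have := (Subgroup.mem_normalizer_iff.1 hgN ⟨_, hwS⟩).1 (muP_mem_uU w)
    exact this
  have hrad : (muP (F := F)).range.map (MulAut.conj x).toMonoidHom = (muP (F := F)).range := by
    refine eq_radical h2 _ ?_ ?_ ?_
    · rintro _ ⟨_, ⟨w, rfl⟩, rfl⟩
      exact hconj (toAdd w)
    · refine ⟨⟨fun a b => ?_⟩⟩
      obtain ⟨_, _, ⟨u, rfl⟩, rfl⟩ := a
      obtain ⟨_, _, ⟨v, rfl⟩, rfl⟩ := b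
      refine Subtype.ext ?_
      show (MulAut.conj x) (muP u) * (MulAut.conj x) (muP v) =
        (MulAut.conj x) (muP v) * (MulAut.conj x) (muP u)
      rw [← map_mul, ← map_mul, ← map_mul, ← map_mul, mul_comm]
    · rw [Subgroup.card_map_of_injective (MulEquiv.injective _),
        ← Nat.card_congr (MonoidHom.ofInjective (muP_injective (F := F))).toEquiv,
        show Nat.card (Multiplicative (V F)) = Nat.card (V F) from rfl]
      simp [Nat.card_prod, pow_succ, mul_assoc]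
  obtain ⟨w, hw⟩ : x * muP (ofAdd ((1, 0, 1) : V F)) * x⁻¹ ∈ (muP (F := F)).range := by
    rw [← hrad]; exact ⟨_, ⟨_, rfl⟩, rfl⟩
  obtain ⟨v, d, t, e⟩ := centralizer_mem hc h2
    (Subgroup.mem_centralizer_singleton_iff.1 (g : cenT F c).2)
    ⟨toAdd w, by rw [ofAdd_toAdd, hw, hx]; group⟩
  have hT : (⟨_, mem_cenT_tau c t⟩ : cenT F c) ∈ (S : Subgroup (cenT F c)) := by
    have h1 : (⟨_, mul_mem (mem_cenT_mu c v) (mem_cenT_xi c d)⟩ : cenT F c) ∈ (S : Subgroup (cenT F c)) :=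
      hS ⟨v, d, rfl⟩
    have h2' : (⟨_, mem_cenT_tau c t⟩ : cenT F c) =
        (⟨_, mul_mem (mem_cenT_mu c v) (mem_cenT_xi c d)⟩ : cenT F c)⁻¹ * (g : cenT F c) := by
      refine Subtype.ext ?_
      show tauP t = (muP (ofAdd v) * xiP (ofAdd d))⁻¹ * x
      rw [hx, e]; group
    rw [h2']
    exact mul_mem (inv_mem h1) g.2
  have h1 : tauP t = 1 := by
    obtain ⟨k, hk⟩ := S.isPGroup' ⟨_, hT⟩
    have hk' : tauP t ^ p ^ k = 1 := congrArg (fun y : (S : Subgroup (cenT F c)) => (y.1 : PS)) hk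
    have ho : orderOf (tauP t) ∣ p ^ k := orderOf_dvd_of_pow_eq_one hk'
    have ho' : orderOf (tauP t) ∣ Nat.card F - 1 := by
      rw [← Nat.card_units F]
      exact (orderOf_map_dvd tauP t).trans (orderOf_dvd_natCard t)
    have hcop : Nat.Coprime (p ^ k) (Nat.card F - 1) := by
      refine Nat.Coprime.pow_left _ ((Nat.Prime.coprime_iff_not_dvd Fact.out).2 fun hd => ?_)
      have h1 : p ∣ Nat.card F := hcard ▸ dvd_pow_self p (by omega)
      have h2 : 1 ≤ Nat.card F := Nat.card_pos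
      have := Nat.dvd_sub h1 hd
      rw [Nat.sub_sub_self h2, Nat.dvd_one] at this
      exact (Nat.Prime.one_lt Fact.out).ne' this
    exact orderOf_eq_one_iff.1 (Nat.eq_one_of_dvd_coprimes hcop ho ho')
  refine hgU ?_
  show x ∈ uU (F := F)
  rw [hx, e, h1, mul_one]
  exact ⟨v, d, rfl⟩

end Cfsg.Agent.Transfer.SpFourLocal
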