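import Cfsg.Agent.Lib.Transfer.SpFourLocal.Maps

/-!
A finite group of additive maps of symmetric two-by-two matrices with the local properties of `N(M)/M`:
the conjugates of the fixed line of the unipotent subgroup, and the count of those fixed by `diag(1, -1)`.
-/

set_option autoImplicit false
set_option linter.unusedSectionVars false

namespace Cfsg.Agent.Transfer.SpFourLocal

open Equiv Subgroup

variable {F : Type*} [Field F] [Finite F]

/-- The local hypotheses. -/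
structure Hyp (p n : ℕ) (W : Subgroup (Perm (V F))) : Prop where
  prime : p.Prime
  odd : p ≠ 2
  npos : 1 ≤ n
  card : Nat.card F = p ^ n
  four : p ^ n % 4 = 3
  add : ∀ w ∈ W, ∀ u v : V F, w (u + v) = w u + w v
  xmem : ∀ c : F, Xp c ∈ W
  tmem : ∀ s : Fˣ, Dp 1 s ∈ W
  stab : ∀ w ∈ W, ∀ z : F, z ≠ 0 → w (z, 0, 0) = (z, 0, 0) → ∃ (c : F) (s : Fˣ), w = Xp c * Dp 1 s
  pcard : ¬ p ^ (n + 1) ∣ Nat.card W
  classes : ∃ z₁ z₂ : F, z₁ ≠ 0 ∧ z₂ ≠ 0 ∧ ∀ w ∈ W, w (z₁, 0, 0) ≠ (z₂, 0, 0)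
  moves : ∃ w ∈ W, ∃ z : F, (w (z, 0, 0)).2 ≠ 0

variable {p n : ℕ} {W : Subgroup (Perm (V F))} (h : Hyp p n W)
include h

theorem Hyp.charP : CharP F p := by
  haveI := Fintype.ofFinite F
  exact charP_of_card_eq_prime_pow (p := p) (hp := ⟨h.prime⟩) (by rw [Fintype.card_eq_nat_card, h.card])

theorem Hyp.two_ne : (2 : F) ≠ 0 := by
  intro h2
  haveI := h.charP
  have := (CharP.cast_eq_zero_iff F p 2).1 (by exact_mod_cast h2)
  exact h.odd ((Nat.prime_dvd_prime_iff_eq h.prime Nat.prime_two).1 this)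

theorem Hyp.four' : Nat.card F % 4 = 3 := h.card ▸ h.four

theorem Hyp.map_zero {w : Perm (V F)} (hw : w ∈ W) : w 0 = 0 := by
  have := h.add w hw 0 0
  simpa using this

theorem Hyp.tt_mem : tt ∈ W := h.tmem _

theorem Hyp.tc_mem (r : F) : tc r ∈ W := mul_mem (mul_mem (h.xmem r) h.tt_mem) (h.xmem _)

theorem Hyp.tc_fix_line (r z : F) : tc r (z, (0 : F), (0 : F)) = (z, 0, 0) :=
  (tc_fix_iff h.two_ne r z 0 0).2 (by simp)

theorem Hyp.tc_ne_one (r : F) : tc r ≠ 1 := by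
  intro e
  have := congrArg (fun f : Perm (V F) => f ((0 : F), (1 : F), (0 : F))) e
  simp only [tc_apply, Perm.one_apply, Prod.mk.injEq] at this
  refine h.two_ne ?_
  linear_combination -this.2.1

/-- An element fixing one nonzero point of the line fixes it pointwise. -/
theorem Hyp.fix_line {w : Perm (V F)} (hw : w ∈ W) {z : F} (hz : z ≠ 0) (hwz : w (z, 0, 0) = (z, 0, 0))
    (z' : F) : w (z', 0, 0) = (z', 0, 0) := by
  obtain ⟨c, s, rfl⟩ := h.stab w hw z hz hwz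
  simp

/-- An involution fixing the line pointwise is a conjugate of `tt`. -/
theorem Hyp.involution {w : Perm (V F)} (hw : w ∈ W) {z : F} (hz : z ≠ 0) (hwz : w (z, 0, 0) = (z, 0, 0))
    (h1 : w ≠ 1) (h2 : w * w = 1) : ∃ r, w = tc r := by
  obtain ⟨c, s, rfl⟩ := h.stab w hw z hz hwz
  have e := congrArg (fun f : Perm (V F) => f ((0 : F), (1 : F), (0 : F))) h2
  simp only [Perm.mul_apply, Dp_apply, Xp_apply, Perm.one_apply, Units.val_one, Prod.mk.injEq] at e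
  have hs : (s : F) * s = 1 := by linear_combination e.2.1
  rcases mul_self_eq_one_iff.1 hs with hs1 | hs1
  · exfalso
    have : s = 1 := Units.ext hs1
    subst this
    rw [Dp_one, mul_one] at h2 h1
    rw [← Xp_add, Xp_eq_one_iff, ← two_mul, mul_eq_zero] at h2
    exact h1 (Xp_eq_one_iff.2 (h2.resolve_left h.two_ne))
  · have : s = -1 := Units.ext (by rw [hs1]; simp)
    subst this
    haveI : NeZero (2 : F) := ⟨h.two_ne⟩
    refine ⟨c / 2, ?_⟩
    rw [show Dp 1 (-1 : Fˣ) = (tt : Perm (V F)) from rfl, tc, mul_assoc, tt_mul_Xp, neg_neg, ← mul_assoc,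
      ← Xp_add, add_halves]

/-- The line is a block. -/
theorem Hyp.block {w : Perm (V F)} (hw : w ∈ W) {z z' : F} (hz : z ≠ 0)
    (hwz : w (z, 0, 0) = (z', 0, 0)) (x : F) : (w (x, 0, 0)).2 = 0 := by
  have hy : w⁻¹ * Xp 1 * w ∈ W := mul_mem (mul_mem (inv_mem hw) (h.xmem 1)) hw
  have h1 : (w⁻¹ * Xp 1 * w : Perm (V F)) (z, 0, 0) = (z, 0, 0) := by
    rw [Perm.mul_apply, Perm.mul_apply, hwz, Xp_apply]
    simp [← hwz]
  have h2 := h.fix_line hy hz h1 x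
  rw [Perm.mul_apply, Perm.mul_apply, Perm.inv_eq_iff_eq] at h2
  obtain ⟨a, b⟩ := (Xp_fix_iff h.two_ne (one_ne_zero (α := F)) _ _ _).1 h2
  exact Prod.ext a b

theorem Hyp.stab_trivial {x : Perm (V F)} (hx : x ∈ W) {z z' a' : F} (hz : z ≠ 0)
    (ha : a' ≠ 0) (h1 : x (z, 0, 0) = (z, 0, 0)) (h2 : x (z', a', 0) = (z', a', 0)) : x = 1 := by
  obtain ⟨c, s, rfl⟩ := h.stab x hx z hz h1
  simp only [Perm.mul_apply, Dp_apply, Xp_apply, Units.val_one, one_mul, one_pow, mul_zero, add_zero,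
    Prod.mk.injEq] at h2
  obtain ⟨e1, e2, -⟩ := h2
  have hs : s = 1 := Units.ext (mul_right_cancel₀ ha (by simpa using e2))
  subst hs
  have hc : c = 0 := by simpa [h.two_ne, ha] using e1
  subst hc
  rw [Xp_zero, Dp_one, mul_one]

/-- No conjugate of the line meets the hyperplane `b = 0` outside the line. -/
theorem Hyp.no_flat {w : Perm (V F)} (hw : w ∈ W) {z : F} (hz : z ≠ 0)
    (hb : (w (z, 0, 0)).2.2 = 0) : (w (z, 0, 0)).2.1 = 0 := by
  by_contra ha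
  obtain ⟨z', a', b', hv⟩ : ∃ z' a' b', w (z, 0, 0) = (z', a', b') := ⟨_, _, _, rfl⟩
  rw [hv] at ha hb
  change b' = 0 at hb
  subst hb
  change a' ≠ 0 at ha
  have hout : ∀ x : F, x ≠ 0 → (w (x, 0, 0)).2.2 = 0 ∧ (w (x, 0, 0)).2.1 ≠ 0 := by
    intro x hx
    obtain ⟨u1, u2, u3, hu⟩ : ∃ u1 u2 u3, w (x, 0, 0) = (u1, u2, u3) := ⟨_, _, _, rfl⟩
    rw [hu]
    have h3 : u3 = 0 := by
      by_contra h3
      have hy : tc (u2 / u3) (u1, u2, u3) = (u1, u2, u3) :=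
        (tc_fix_iff h.two_ne _ _ _ _).2 (div_mul_cancel₀ _ h3).symm
      have hm : w⁻¹ * tc (u2 / u3) * w ∈ W := mul_mem (mul_mem (inv_mem hw) (h.tc_mem _)) hw
      have := h.fix_line hm hx (by rw [Perm.mul_apply, Perm.mul_apply, hu, hy, ← hu]; simp) z
      rw [Perm.mul_apply, Perm.mul_apply, Perm.inv_eq_iff_eq, hv] at this
      exact h.tc_ne_one _ (h.stab_trivial (h.tc_mem _) one_ne_zero ha (h.tc_fix_line _ _) this)
    refine ⟨h3, fun h2 => ha ?_⟩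
    subst h3
    change u2 = 0 at h2
    subst h2
    have := h.block hw hx hu z
    rw [hv] at this
    exact congrArg Prod.fst this
  obtain ⟨z₁, z₂, hz₁, hz₂, hne⟩ := h.classes
  have key : ∀ x : F, x ≠ 0 → ∃ g ∈ W, g ((0 : F), 1, 0) = (x, 0, 0) := by
    intro x hx
    obtain ⟨v1, v2, v3, hv'⟩ : ∃ v1 v2 v3, w⁻¹ (x, (0 : F), (0 : F)) = (v1, v2, v3) := ⟨_, _, _, rfl⟩
    have hwv : w (v1, v2, v3) = (x, 0, 0) := by rw [← hv']; simp
    have h3 : v3 = 0 := by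
      by_contra h3
      have hy : tc (v2 / v3) (v1, v2, v3) = (v1, v2, v3) :=
        (tc_fix_iff h.two_ne _ _ _ _).2 (div_mul_cancel₀ _ h3).symm
      have hm : w * tc (v2 / v3) * w⁻¹ ∈ W := mul_mem (mul_mem hw (h.tc_mem _)) (inv_mem hw)
      have e1 : (w * tc (v2 / v3) * w⁻¹) (x, 0, 0) = (x, 0, 0) := by
        rw [Perm.mul_apply, Perm.mul_apply, hv', hy, hwv]
      have e2 : (w * tc (v2 / v3) * w⁻¹) (z', a', 0) = (z', a', 0) := by
        rw [← hv]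
        simp [h.tc_fix_line]
      have := h.stab_trivial hm hx ha e1 e2
      rw [conj_eq_one_iff] at this
      exact h.tc_ne_one _ this
    subst h3
    have h2 : v2 ≠ 0 := by
      rintro rfl
      have hv1 : v1 ≠ 0 := by
        rintro rfl
        exact hx (congrArg Prod.fst (hwv.symm.trans (h.map_zero hw)))
      exact (hout v1 hv1).2 (by rw [hwv])
    refine ⟨w * (Xp (v1 / (2 * v2)) * Dp 1 (Units.mk0 v2 h2)), mul_mem hw (mul_mem (h.xmem _) (h.tmem _)), ?_⟩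
    rw [Perm.mul_apply, Perm.mul_apply, Dp_apply, Xp_apply]
    convert hwv using 2
    have := h.two_ne
    refine Prod.ext ?_ (Prod.ext ?_ ?_) <;> simp
    field_simp
  obtain ⟨g₁, hg₁, e₁⟩ := key z₁ hz₁
  obtain ⟨g₂, hg₂, e₂⟩ := key z₂ hz₂
  exact hne (g₂ * g₁⁻¹) (mul_mem hg₂ (inv_mem hg₁)) (by rw [Perm.mul_apply, ← e₁]; simp [e₂])

omit h in
/-- `g` sends the line onto the graph of `φ`. -/
def IsGraph (g : Perm (V F)) (φ : F → F) : Prop := ∀ b : F, ∃ z : F, g (z, 0, 0) = (φ b, 0, b)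

theorem IsGraph.spec {g : Perm (V F)} {φ : F → F} (hg : IsGraph g φ) (z : F) :
    g (z, 0, 0) = (φ (g (z, 0, 0)).2.2, 0, (g (z, 0, 0)).2.2) := by
  choose f hf using hg
  have hinj : Function.Injective f := fun b b' e => by
    have := (hf b).symm.trans (e ▸ hf b')
    exact congrArg (fun v : V F => v.2.2) this
  obtain ⟨b, rfl⟩ := (Finite.injective_iff_surjective.1 hinj) z
  rw [hf b]

theorem Hyp.moves_line {w : Perm (V F)} (hw : w ∈ W) {z : F} (hne : (w (z, 0, 0)).2 ≠ 0) {x : F}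
    (hx : x ≠ 0) : (w (x, 0, 0)).2.2 ≠ 0 := by
  intro hb
  refine hne ?_
  exact h.block hw hx (z' := (w (x, 0, 0)).1) (Prod.ext rfl (Prod.ext (h.no_flat hw hx hb) hb)) z

/-- A conjugate of the line other than itself is, for one `r`, the image of a graph under `Xp r`. -/
theorem Hyp.graph_of_moves {w : Perm (V F)} (hw : w ∈ W) {z : F} (hne : (w (z, 0, 0)).2 ≠ 0) :
    ∃ (r : F) (φ : F → F), IsGraph (Xp (-r) * w) φ := by
  obtain ⟨a₁, b₁, c₁, h₁⟩ : ∃ a₁ b₁ c₁, w (1, 0, 0) = (a₁, b₁, c₁) := ⟨_, _, _, rfl⟩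
  have hc₁ : c₁ ≠ 0 := by
    have := h.moves_line hw hne (one_ne_zero (α := F))
    rwa [h₁] at this
  refine ⟨b₁ / c₁, ?_⟩
  have hy : tc (b₁ / c₁) (a₁, b₁, c₁) = (a₁, b₁, c₁) :=
    (tc_fix_iff h.two_ne _ _ _ _).2 (div_mul_cancel₀ _ hc₁).symm
  have hm : w⁻¹ * tc (b₁ / c₁) * w ∈ W := mul_mem (mul_mem (inv_mem hw) (h.tc_mem _)) hw
  have hfix := h.fix_line hm (one_ne_zero (α := F))
    (by rw [Perm.mul_apply, Perm.mul_apply, h₁, hy, ← h₁]; simp)
  set r := b₁ / c₁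
  set g := Xp (-r) * w
  have hg : g ∈ W := mul_mem (h.xmem _) hw
  have hA : ∀ x, (g (x, 0, 0)).2.1 = 0 := by
    intro x
    have := hfix x
    rw [Perm.mul_apply, Perm.mul_apply, Perm.inv_eq_iff_eq] at this
    obtain ⟨u1, u2, u3, hu⟩ : ∃ u1 u2 u3, w (x, 0, 0) = (u1, u2, u3) := ⟨_, _, _, rfl⟩
    rw [hu] at this
    have h2 := (tc_fix_iff h.two_ne _ _ _ _).1 this
    show ((Xp (-r) * w) (x, 0, 0)).2.1 = 0
    rw [Perm.mul_apply, hu, Xp_apply]
    linear_combination h2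
  have hinj : Function.Injective fun x => (g (x, 0, 0)).2.2 := by
    intro x y e
    dsimp only at e
    have hd : g (x, 0, 0) = g (x - y, 0, 0) + g (y, 0, 0) := by
      rw [← h.add g hg]; simp
    have h0 : (g (x - y, 0, 0)).2.2 = 0 := by
      have := congrArg (fun v : V F => v.2.2) hd
      simp only [Prod.snd_add] at this
      linear_combination e - this
    by_contra hxy
    obtain ⟨u1, u2, u3, hu⟩ : ∃ u1 u2 u3, w (x - y, 0, 0) = (u1, u2, u3) := ⟨_, _, _, rfl⟩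
    have := h.moves_line hw hne (sub_ne_zero.2 hxy)
    rw [show (g (x - y, 0, 0)) = Xp (-r) (w (x - y, 0, 0)) from rfl, hu, Xp_apply] at h0
    rw [hu] at this
    exact this h0
  choose f hf using (Finite.injective_iff_surjective.1 hinj)
  exact ⟨fun b => (g (f b, 0, 0)).1, fun b => ⟨f b, Prod.ext rfl (Prod.ext (hA _) (hf b))⟩⟩

omit h in
/-- The additive maps whose graphs are conjugates of the line. -/
def Graphs (W : Subgroup (Perm (V F))) : Set (F → F) := {φ | ∃ g ∈ W, IsGraph g φ}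

theorem Hyp.graphs_add {φ : F → F} (hφ : φ ∈ Graphs W) (x y : F) : φ (x + y) = φ x + φ y := by
  obtain ⟨g, hg, hgr⟩ := hφ
  obtain ⟨a, ha⟩ := hgr x
  obtain ⟨b, hb⟩ := hgr y
  have e : g (a + b, 0, 0) = (φ x + φ y, 0, x + y) := by
    have := h.add g hg (a, 0, 0) (b, 0, 0)
    rw [ha, hb] at this
    simpa using this
  have := IsGraph.spec h hgr (a + b)
  rw [e] at this
  exact (congrArg Prod.fst this).symm

theorem Hyp.graphs_eq {φ ψ : F → F} (hφ : φ ∈ Graphs W) (hψ : ψ ∈ Graphs W) {b : F} (hb : b ≠ 0)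
    (e : φ b = ψ b) : φ = ψ := by
  obtain ⟨g₁, hg₁, hgr₁⟩ := hφ
  obtain ⟨g₂, hg₂, hgr₂⟩ := hψ
  obtain ⟨z₁, h₁⟩ := hgr₁ b
  obtain ⟨z₂, h₂⟩ := hgr₂ b
  have hw : g₂⁻¹ * g₁ ∈ W := mul_mem (inv_mem hg₂) hg₁
  have hz₁ : z₁ ≠ 0 := by
    rintro rfl
    exact hb (congrArg (fun v : V F => v.2.2) (h₁.symm.trans (h.map_zero hg₁)))
  have hbl := h.block hw hz₁ (z' := z₂) (by rw [Perm.mul_apply, h₁, e, ← h₂]; simp)
  funext b'
  obtain ⟨y, hy⟩ := hgr₁ b'
  obtain ⟨u, hu⟩ : ∃ u, (g₂⁻¹ * g₁) (y, 0, 0) = (u, 0, 0) :=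
    ⟨_, Prod.ext rfl (hbl y)⟩
  have : g₂ (u, 0, 0) = (φ b', 0, b') := by rw [← hu, ← hy]; simp
  have h3 := IsGraph.spec h hgr₂ u
  rw [this] at h3
  exact congrArg Prod.fst h3

theorem Hyp.graphs_nonempty : (Graphs W).Nonempty := by
  obtain ⟨w, hw, z, hz⟩ := h.moves
  obtain ⟨r, φ, hφ⟩ := h.graph_of_moves hw hz
  exact ⟨φ, _, mul_mem (h.xmem _) hw, hφ⟩

theorem Hyp.graphs_card_le : Nat.card (Graphs W) ≤ Nat.card F :=
  Nat.card_le_card_of_injective (fun φ => φ.1 1) fun φ ψ e =>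
    Subtype.ext (h.graphs_eq φ.2 ψ.2 one_ne_zero e)

/-- A graph conjugate is reached by an element commuting with `tt`. -/
theorem Hyp.graph_commute {φ : F → F} (hφ : φ ∈ Graphs W) :
    ∃ g ∈ W, g * tt = tt * g ∧ IsGraph g φ := by
  obtain ⟨g, hg, hgr⟩ := hφ
  have hm : g⁻¹ * tt * g ∈ W := mul_mem (mul_mem (inv_mem hg) h.tt_mem) hg
  have hfix : (g⁻¹ * tt * g : Perm (V F)) ((1 : F), 0, 0) = (1, 0, 0) := by
    rw [Perm.mul_apply, Perm.mul_apply, Perm.inv_eq_iff_eq, IsGraph.spec h hgr 1, tt_apply, neg_zero]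
  have hne : g⁻¹ * tt * g ≠ 1 := by
    intro e
    refine h.tc_ne_one 0 ?_
    rw [tc_zero]
    simpa [mul_assoc, inv_mul_eq_one] using e
  have hsq : (g⁻¹ * tt * g) * (g⁻¹ * tt * g) = 1 := by
    rw [show (g⁻¹ * tt * g) * (g⁻¹ * tt * g) = g⁻¹ * (tt * tt) * g by group, tt_mul_self]
    simp
  obtain ⟨r, hr⟩ := h.involution hm one_ne_zero hfix hne hsq
  refine ⟨g * Xp r, mul_mem hg (h.xmem r), ?_, fun b => ?_⟩
  · have : tt * g = g * tc r := by rw [← hr]; group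
    rw [← mul_assoc tt g, this, tc]
    rw [show g * (Xp r * tt * Xp (-r)) * Xp r = g * Xp r * tt * (Xp (-r) * Xp r) by group, ← Xp_add,
      neg_add_cancel, Xp_zero, mul_one]
  · obtain ⟨z, hz⟩ := hgr b
    exact ⟨z, by rw [Perm.mul_apply, Xp_apply]; simpa using hz⟩

end Cfsg.Agent.Transfer.SpFourLocal
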