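import Cfsg.Agent.Lib.Transfer.SpFourLocal.Shape
import Cfsg.Agent.S0051

/-!
The normalizer of the radical in a group with a subgroup of the given shape.
-/

set_option autoImplicit false
set_option linter.unusedSectionVars false

namespace Cfsg.Agent.Transfer.SpFourLocal

open Equiv Subgroup
open Multiplicative (ofAdd toAdd)

variable {G : Type*} [Group G] [Finite G] {F : Type*} [Field F] [Finite F] {p n : ℕ} [Fact p.Prime]

/-- The data in the big group. -/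
structure Data (G : Type*) [Group G] (F : Type*) [Field F] (p : ℕ) where
  mu : Multiplicative (V F) →* G
  xi : Multiplicative F →* G
  tau : Fˣ →* G
  C : Subgroup G
  P : Sylow p G
  mu_inj : Function.Injective mu
  xi_conj : ∀ c v, xi (ofAdd c) * mu (ofAdd v) = mu (ofAdd (Xp c v)) * xi (ofAdd c)
  tau_conj : ∀ t v, tau t * mu (ofAdd v) = mu (ofAdd (Dp 1 t v)) * tau t
  P_le : (P : Subgroup G) ≤ C
  P_form : ∀ g, g ∈ (P : Subgroup G) ↔ ∃ v c, g = mu (ofAdd v) * xi (ofAdd c)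
  P_card : Nat.card (P : Subgroup G) = Nat.card F ^ 4
  tau_mem : ∀ t, tau t ∈ C
  norm_form : ∀ g ∈ C, (∃ w, g * mu (ofAdd ((1, 0, 1) : V F)) = mu (ofAdd w) * g) →
    ∃ v c t, g = mu (ofAdd v) * xi (ofAdd c) * tau t
  cent : ∀ z : F, z ≠ 0 → Subgroup.centralizer ({mu (ofAdd ((z, 0, 0) : V F))} : Set G) = C
  classes : ∃ (u v : G) (Pu Pv : Sylow p G), orderOf u = p ∧ orderOf v = p ∧
      u ∈ (Pu : Subgroup G) ∧ (∀ y ∈ (Pu : Subgroup G), y * u = u * y) ∧
      v ∈ (Pv : Subgroup G) ∧ (∀ y ∈ (Pv : Subgroup G), y * v = v * y) ∧ ∀ g : G, g * u * g⁻¹ ≠ v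
  many : ∃ Q R : Sylow p ↥(Subgroup.normalizer (mu.range : Set G)), Q ≠ R

variable (D : Data G F p)

/-- The normalizer of the radical. -/
abbrev Data.N : Subgroup G := Subgroup.normalizer (D.mu.range : Set G)

theorem Data.mem_P_mu (v : V F) : D.mu (ofAdd v) ∈ (D.P : Subgroup G) :=
  (D.P_form _).2 ⟨v, 0, by simp⟩

theorem Data.mem_P_xi (c : F) : D.xi (ofAdd c) ∈ (D.P : Subgroup G) :=
  (D.P_form _).2 ⟨0, c, by rw [show (ofAdd (0 : V F)) = 1 from rfl, map_one, one_mul]⟩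

theorem Data.mem_N_of_conj {g : G} (f : Perm (V F))
    (hf : ∀ v, g * D.mu (ofAdd v) = D.mu (ofAdd (f v)) * g) : g ∈ D.N := by
  rw [Data.N, Subgroup.mem_normalizer_iff]
  intro x
  constructor
  · rintro ⟨v, rfl⟩
    refine ⟨ofAdd (f (toAdd v)), ?_⟩
    have := hf (toAdd v)
    rw [ofAdd_toAdd] at this
    rw [this, mul_inv_cancel_right]
  · rintro ⟨v, hv⟩
    refine ⟨ofAdd (f.symm (toAdd v)), ?_⟩
    have := hf (f.symm (toAdd v))
    rw [Equiv.apply_symm_apply, ofAdd_toAdd] at this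
    refine mul_left_cancel (a := g) ?_
    rw [this, hv]; group

theorem Data.xi_mem_N (c : F) : D.xi (ofAdd c) ∈ D.N := D.mem_N_of_conj (Xp c) (D.xi_conj c)

theorem Data.tau_mem_N (t : Fˣ) : D.tau t ∈ D.N := D.mem_N_of_conj (Dp 1 t) (D.tau_conj t)

theorem Data.mu_mem_N (v : V F) : D.mu (ofAdd v) ∈ D.N :=
  Subgroup.le_normalizer ⟨_, rfl⟩

theorem Data.P_le_N : (D.P : Subgroup G) ≤ D.N := by
  intro g hg
  obtain ⟨v, c, rfl⟩ := (D.P_form g).1 hg
  exact mul_mem (D.mu_mem_N v) (D.xi_mem_N c)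

theorem Data.act_exists (g : D.N) (v : V F) : ∃ w : V F, (g : G) * D.mu (ofAdd v) = D.mu (ofAdd w) * g := by
  obtain ⟨w, hw⟩ := (Subgroup.mem_normalizer_iff.1 g.2 _).1 ⟨ofAdd v, rfl⟩
  exact ⟨toAdd w, by rw [ofAdd_toAdd, hw]; group⟩

/-- The action on the radical. -/
noncomputable def Data.act (g : D.N) (v : V F) : V F := (D.act_exists g v).choose

theorem Data.act_spec (g : D.N) (v : V F) :
    (g : G) * D.mu (ofAdd v) = D.mu (ofAdd (D.act g v)) * g := (D.act_exists g v).choose_spec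

theorem Data.act_unique {g : D.N} {v w : V F} (h : (g : G) * D.mu (ofAdd v) = D.mu (ofAdd w) * g) :
    D.act g v = w := by
  have := (D.act_spec g v).symm.trans h
  exact ofAdd.injective (D.mu_inj (mul_right_cancel this))

theorem Data.act_mul (g k : D.N) (v : V F) : D.act (g * k) v = D.act g (D.act k v) :=
  D.act_unique (by rw [Subgroup.coe_mul, mul_assoc, D.act_spec k, ← mul_assoc, D.act_spec g, mul_assoc])

theorem Data.act_one (v : V F) : D.act 1 v = v := D.act_unique (by simp)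

/-- The action as a homomorphism. -/
noncomputable def Data.rho : D.N →* Perm (V F) where
  toFun g := ⟨D.act g, D.act g⁻¹, fun v => by rw [← D.act_mul, inv_mul_cancel, D.act_one],
    fun v => by rw [← D.act_mul, mul_inv_cancel, D.act_one]⟩
  map_one' := Equiv.ext D.act_one
  map_mul' g k := Equiv.ext (D.act_mul g k)

theorem Data.rho_eq {g : D.N} (f : Perm (V F))
    (hf : ∀ v, (g : G) * D.mu (ofAdd v) = D.mu (ofAdd (f v)) * g) : D.rho g = f :=
  Equiv.ext fun v => D.act_unique (hf v)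

theorem Data.rho_xi (c : F) : D.rho ⟨_, D.xi_mem_N c⟩ = Xp c := D.rho_eq _ (D.xi_conj c)

theorem Data.rho_tau (t : Fˣ) : D.rho ⟨_, D.tau_mem_N t⟩ = Dp 1 t := D.rho_eq _ (D.tau_conj t)

theorem Data.rho_mu (v : V F) : D.rho ⟨_, D.mu_mem_N v⟩ = 1 :=
  D.rho_eq _ fun w => by
    show D.mu (ofAdd v) * D.mu (ofAdd w) = D.mu (ofAdd w) * D.mu (ofAdd v)
    rw [← map_mul D.mu, ← map_mul D.mu, mul_comm (ofAdd v)]

theorem Data.form_of_fix {g : D.N} {z : F} (hz : z ≠ 0) (h : D.act g (z, 0, 0) = (z, 0, 0)) :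
    ∃ (v : V F) (c : F) (t : Fˣ), (g : G) = D.mu (ofAdd v) * D.xi (ofAdd c) * D.tau t ∧
      D.rho g = Xp c * Dp 1 t := by
  have hs := D.act_spec g (z, 0, 0)
  rw [h] at hs
  have hgC : (g : G) ∈ D.C := by rw [← D.cent z hz, Subgroup.mem_centralizer_singleton_iff]; exact hs
  obtain ⟨v, c, t, e⟩ := D.norm_form _ hgC (D.act_exists g _)
  refine ⟨v, c, t, e, ?_⟩
  have : g = (⟨_, D.mu_mem_N v⟩ * ⟨_, D.xi_mem_N c⟩ * ⟨_, D.tau_mem_N t⟩ : D.N) := Subtype.ext e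
  rw [this, map_mul, map_mul, D.rho_mu, D.rho_xi, D.rho_tau, one_mul]

theorem Data.ker_rho : D.rho.ker = D.mu.range.subgroupOf D.N := by
  ext g
  rw [MonoidHom.mem_ker, Subgroup.mem_subgroupOf]
  constructor
  · intro h
    have h1 : D.act g ((1 : F), 0, 0) = (1, 0, 0) :=
      congrArg (fun f : Perm (V F) => f ((1 : F), (0 : F), (0 : F))) h
    obtain ⟨v, c, t, e, hr⟩ := D.form_of_fix one_ne_zero h1
    rw [h] at hr
    have := congrArg (fun f : Perm (V F) => f ((0 : F), (1 : F), (0 : F))) hr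
    simp only [Perm.one_apply, Perm.mul_apply, Dp_apply, Xp_apply, Units.val_one, Prod.mk.injEq] at this
    have ht : t = 1 := Units.ext (by simpa using this.2.1.symm)
    subst ht
    rw [Dp_one, mul_one] at hr
    obtain rfl := Xp_eq_one_iff.1 hr.symm
    exact ⟨ofAdd v, by rw [e]; simp⟩
  · rintro ⟨v, hv⟩
    rw [show g = ⟨_, D.mu_mem_N (toAdd v)⟩ from Subtype.ext (by rw [← hv]; rfl), D.rho_mu]

theorem Data.center_P {u : G} (hu : u ∈ (D.P : Subgroup G)) (hu1 : u ≠ 1)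
    (hc : ∀ y ∈ (D.P : Subgroup G), y * u = u * y) (h2 : (2 : F) ≠ 0) :
    ∃ z : F, z ≠ 0 ∧ u = D.mu (ofAdd ((z, 0, 0) : V F)) := by
  obtain ⟨v, c, rfl⟩ := (D.P_form u).1 hu
  have huN : D.mu (ofAdd v) * D.xi (ofAdd c) ∈ D.N := D.P_le_N hu
  have hr : D.rho ⟨_, huN⟩ = Xp c := by
    rw [show (⟨_, huN⟩ : D.N) = ⟨_, D.mu_mem_N v⟩ * ⟨_, D.xi_mem_N c⟩ from Subtype.ext rfl, map_mul,
      D.rho_mu, D.rho_xi, one_mul]
  have h1 : D.act ⟨_, huN⟩ (0, 1, 0) = (0, 1, 0) := D.act_unique (hc _ (D.mem_P_mu _)).symm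
  rw [show D.act ⟨_, huN⟩ (0, 1, 0) = Xp c (0, 1, 0) from by rw [← hr]; rfl, Xp_apply] at h1
  simp only [mul_one, mul_zero, add_zero, zero_add, Prod.mk.injEq] at h1
  obtain rfl : c = 0 := (mul_eq_zero.1 h1.1).resolve_left h2
  simp only [ofAdd_zero, map_one, mul_one] at hu1 hc ⊢
  have h3 := hc _ (D.mem_P_xi 1)
  rw [D.xi_conj] at h3
  have h4 : Xp 1 v = v := ofAdd.injective (D.mu_inj (mul_right_cancel h3))
  obtain ⟨z, a, b⟩ := v
  obtain ⟨rfl, rfl⟩ := (Xp_fix_iff h2 one_ne_zero _ _ _).1 h4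
  refine ⟨z, fun e => hu1 ?_, rfl⟩
  subst e
  exact map_one D.mu

theorem Data.pow_mid (c : F) (s : Fˣ) (i : ℕ) :
    (((Xp c * Dp 1 s) ^ i : Perm (V F)) (0, 1, 0)).2 = ((s : F) ^ i, 0) := by
  induction i with
  | zero => simp
  | succ i ih =>
    rw [pow_succ', Perm.mul_apply]
    obtain ⟨x, y, z, hv⟩ : ∃ x y z, ((Xp c * Dp 1 s) ^ i : Perm (V F)) (0, 1, 0) = (x, y, z) :=
      ⟨_, _, _, rfl⟩
    rw [hv] at ih ⊢
    simp only [Prod.mk.injEq] at ih
    obtain ⟨rfl, rfl⟩ := ih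
    simp only [Perm.mul_apply, Dp_apply, Xp_apply, Units.val_one]
    refine Prod.ext ?_ ?_ <;> simp [pow_succ']

theorem Data.exists_moves (hcard : Nat.card F = p ^ n) :
    ∃ g : D.N, ∃ z : F, (D.act g (z, 0, 0)).2 ≠ 0 := by
  by_contra hno
  push Not at hno
  haveI := Fintype.ofFinite F
  haveI : CharP F p := charP_of_card_eq_prime_pow (p := p) (by rw [Fintype.card_eq_nat_card, hcard])
  have hxi : ∀ (g : D.N) (c : F), (g : G) * D.xi (ofAdd c) * (g : G)⁻¹ ∈ (D.P : Subgroup G) := by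
    intro g c
    set x : D.N := g * ⟨_, D.xi_mem_N c⟩ * g⁻¹ with hx
    obtain ⟨z', hz'⟩ : ∃ z', D.act g⁻¹ ((1 : F), 0, 0) = (z', 0, 0) := ⟨_, Prod.ext rfl (hno _ _)⟩
    have hfix : D.act x (1, 0, 0) = (1, 0, 0) := by
      rw [hx, D.act_mul, D.act_mul, hz']
      rw [show D.act ⟨_, D.xi_mem_N c⟩ (z', 0, 0) = Xp c (z', 0, 0) from by rw [← D.rho_xi c]; rfl]
      rw [show Xp c (z', (0 : F), (0 : F)) = (z', 0, 0) by simp, ← hz', ← D.act_mul, mul_inv_cancel,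
        D.act_one]
    obtain ⟨v, c', t, e, hr⟩ := D.form_of_fix one_ne_zero hfix
    have hp : (Xp c' * Dp 1 t : Perm (V F)) ^ p = 1 := by
      rw [← hr, hx, map_mul, map_mul, map_inv, conj_pow, D.rho_xi]
      have he : ∀ i : ℕ, (Xp c : Perm (V F)) ^ i = Xp ((i : F) * c) := by
        intro i
        induction i with
        | zero => simp [Xp_zero]
        | succ i ih => rw [pow_succ, ih, ← Xp_add]; push_cast; ring_nf
      rw [he, CharP.cast_eq_zero, zero_mul, Xp_zero, mul_one, mul_inv_cancel]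
    have hs := Data.pow_mid c' t p
    rw [hp, Perm.one_apply] at hs
    have ht : t = 1 := Units.ext (sub_eq_zero.1 (eq_zero_of_pow_eq_zero (n := p) (by
      rw [sub_pow_char, Units.val_one, one_pow, show (t : F) ^ p = 1 from (congrArg Prod.fst hs).symm,
        sub_self])))
    subst ht
    refine (D.P_form _).2 ⟨v, c', ?_⟩
    rw [map_one, mul_one] at e
    exact e
  obtain ⟨Q, R, hne⟩ := D.many
  refine hne ?_
  have hn : ((D.P.subtype D.P_le_N : Sylow p D.N) : Subgroup D.N).Normal := by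
    refine ⟨fun x hx g => ?_⟩
    rw [Sylow.coe_subtype, Subgroup.mem_subgroupOf] at hx ⊢
    obtain ⟨v, c, e⟩ := (D.P_form _).1 hx
    rw [Subgroup.coe_mul, Subgroup.coe_mul, Subgroup.coe_inv, e,
      show (g : G) * (D.mu (ofAdd v) * D.xi (ofAdd c)) * (g : G)⁻¹ =
        ((g : G) * D.mu (ofAdd v) * (g : G)⁻¹) * ((g : G) * D.xi (ofAdd c) * (g : G)⁻¹) by group]
    refine mul_mem ?_ (hxi g c)
    rw [D.act_spec, mul_inv_cancel_right]
    exact D.mem_P_mu _
  haveI := Sylow.unique_of_normal (D.P.subtype D.P_le_N) hn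
  exact Subsingleton.elim Q R

theorem Data.card_mu : Nat.card D.mu.range = Nat.card F ^ 3 := by
  rw [← Nat.card_congr (MonoidHom.ofInjective D.mu_inj).toEquiv,
    show Nat.card (Multiplicative (V F)) = Nat.card (V F) from rfl]
  simp [Nat.card_prod, pow_succ, mul_assoc]

theorem Data.hyp (hp : p ≠ 2) (hn : 1 ≤ n) (hcard : Nat.card F = p ^ n) (h4 : p ^ n % 4 = 3) :
    Hyp p n D.rho.range := by
  haveI := Fintype.ofFinite F
  haveI : CharP F p := charP_of_card_eq_prime_pow (p := p) (by rw [Fintype.card_eq_nat_card, hcard])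
  have h2 : (2 : F) ≠ 0 := by
    intro e
    have := (CharP.cast_eq_zero_iff F p 2).1 (by exact_mod_cast e)
    exact hp ((Nat.prime_dvd_prime_iff_eq Fact.out Nat.prime_two).1 this)
  refine ⟨Fact.out, hp, hn, hcard, h4, ?_, ?_, ?_, ?_, ?_, ?_, ?_⟩
  · rintro _ ⟨g, rfl⟩ u v
    refine D.act_unique ?_
    rw [ofAdd_add, map_mul, ← mul_assoc, D.act_spec g u, mul_assoc, D.act_spec g v, ← mul_assoc,
      ← map_mul]
    rfl
  · exact fun c => ⟨_, D.rho_xi c⟩
  · exact fun s => ⟨_, D.rho_tau s⟩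
  · rintro _ ⟨g, rfl⟩ z hz hgz
    obtain ⟨v, c, t, -, hr⟩ := D.form_of_fix hz hgz
    exact ⟨c, t, hr⟩
  · intro hd
    have hK : Nat.card D.rho.ker = Nat.card F ^ 3 := by
      rw [D.ker_rho, Nat.card_congr (Subgroup.subgroupOfEquivOfLe Subgroup.le_normalizer).toEquiv,
        D.card_mu]
    have hN : Nat.card D.rho.ker * Nat.card D.rho.range = Nat.card D.N := by
      rw [← Subgroup.index_ker, Subgroup.card_mul_index]
    have hdG : p ^ (4 * n + 1) ∣ Nat.card G := by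
      refine dvd_trans ?_ (hN ▸ Subgroup.card_subgroup_dvd_card D.N)
      rw [hK, hcard, ← pow_mul, show 4 * n + 1 = n * 3 + (n + 1) by ring, pow_add]
      exact mul_dvd_mul_left _ hd
    have hP := D.P.pow_dvd_card_of_pow_dvd_card hdG
    rw [D.P_card, hcard, ← pow_mul] at hP
    have := (Nat.pow_dvd_pow_iff_le_right (Nat.Prime.one_lt Fact.out)).1 hP
    omega
  · obtain ⟨u, v, Pu, Pv, hu, hv, huP, huc, hvP, hvc, hne⟩ := D.classes
    have key : ∀ (w : G) (Q : Sylow p G), orderOf w = p → w ∈ (Q : Subgroup G) →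
        (∀ y ∈ (Q : Subgroup G), y * w = w * y) →
        ∃ (z : F) (g : G), z ≠ 0 ∧ g * w * g⁻¹ = D.mu (ofAdd ((z, 0, 0) : V F)) := by
      intro w Q hw hwQ hwc
      obtain ⟨g, hg⟩ := MulAction.exists_smul_eq G Q D.P
      have hmem : g * w * g⁻¹ ∈ (D.P : Subgroup G) := by
        rw [← hg, Sylow.coe_subgroup_smul]; exact ⟨w, hwQ, rfl⟩
      have hne1 : g * w * g⁻¹ ≠ 1 := by
        intro e
        rw [conj_eq_one_iff.1 e, orderOf_one] at hw
        exact (Nat.Prime.one_lt Fact.out).ne hw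
      obtain ⟨z, hz, e⟩ := D.center_P hmem hne1 (fun y hy => by
        rw [← hg, Sylow.coe_subgroup_smul] at hy
        obtain ⟨y', hy', rfl⟩ := hy
        show g * y' * g⁻¹ * (g * w * g⁻¹) = g * w * g⁻¹ * (g * y' * g⁻¹)
        rw [show g * y' * g⁻¹ * (g * w * g⁻¹) = g * (y' * w) * g⁻¹ by group, hwc y' hy']; group) h2
      exact ⟨z, g, hz, e⟩
    obtain ⟨z₁, g₁, hz₁, e₁⟩ := key u Pu hu huP huc
    obtain ⟨z₂, g₂, hz₂, e₂⟩ := key v Pv hv hvP hvc
    refine ⟨z₁, z₂, hz₁, hz₂, ?_⟩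
    rintro _ ⟨g, rfl⟩ e
    refine hne (g₂⁻¹ * g * g₁) ?_
    have hs := D.act_spec g (z₁, 0, 0)
    rw [show D.act g (z₁, 0, 0) = (z₂, 0, 0) from e, ← e₁, ← e₂] at hs
    calc g₂⁻¹ * (g : G) * g₁ * u * (g₂⁻¹ * (g : G) * g₁)⁻¹
        = g₂⁻¹ * ((g : G) * (g₁ * u * g₁⁻¹)) * (g : G)⁻¹ * g₂ := by group
      _ = v := by rw [hs]; group
  · obtain ⟨g, z, hz⟩ := D.exists_moves hcard
    exact ⟨_, ⟨g, rfl⟩, z, hz⟩

theorem Data.main (hp : p ≠ 2) (hn : 1 ≤ n) (hcard : Nat.card F = p ^ n) (h4 : p ^ n % 4 = 3) :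
    ∃ J : Subgroup G, J ≤ D.N ∧ D.mu.range ⊔ J = D.N ∧ D.mu.range ⊓ J = ⊥ ∧
      Nonempty (↥J ≃* (Matrix.ProjGenLinGroup (Fin 2) F × Multiplicative (ZMod ((p ^ n - 1) / 2)))) := by
  set M := D.mu.range
  have hMN : M ≤ D.N := Subgroup.le_normalizer
  set K := M.subgroupOf D.N with hKdef
  haveI : K.Normal := by rw [hKdef, ← D.ker_rho]; infer_instance
  haveI : IsMulCommutative K := ⟨⟨fun a b => by
    obtain ⟨x, hx⟩ := a.2
    obtain ⟨y, hy⟩ := b.2
    refine Subtype.ext (Subtype.ext ?_)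
    show ((a.1 : D.N) : G) * b.1 = b.1 * a.1
    rw [show ((a.1 : D.N) : G) = D.mu x from hx.symm, show ((b.1 : D.N) : G) = D.mu y from hy.symm,
      ← map_mul, ← map_mul, mul_comm]⟩⟩
  set U := ((D.P.subtype D.P_le_N : Sylow p D.N) : Subgroup D.N) with hUdef
  set A := D.xi.range.subgroupOf D.N
  have hKU : K ≤ U := by
    rintro x ⟨v, hv⟩
    rw [hUdef, Sylow.coe_subtype, Subgroup.mem_subgroupOf]
    rw [show (x : G) = D.mu (ofAdd (toAdd v)) from hv.symm]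
    exact D.mem_P_mu _
  have hcop : (Nat.card K).Coprime U.index := by
    rw [Nat.card_congr (Subgroup.subgroupOfEquivOfLe hMN).toEquiv, D.card_mu, hcard, ← pow_mul]
    exact ((Nat.Prime.coprime_iff_not_dvd Fact.out).2 (D.P.subtype D.P_le_N).not_dvd_index).pow_left _
  have hAU : A ≤ U := by
    rintro x ⟨c, hc⟩
    rw [hUdef, Sylow.coe_subtype, Subgroup.mem_subgroupOf, show (x : G) = D.xi (ofAdd (toAdd c)) from hc.symm]
    exact D.mem_P_xi _
  have hAK : A ⊓ K = ⊥ := by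
    rw [eq_bot_iff]
    rintro x ⟨⟨c, hc⟩, hxK⟩
    have h1 : D.rho x = 1 := by rw [← MonoidHom.mem_ker, D.ker_rho]; exact hxK
    rw [show x = ⟨_, D.xi_mem_N (toAdd c)⟩ from Subtype.ext hc.symm, D.rho_xi, Xp_eq_one_iff] at h1
    rw [Subgroup.mem_bot]
    refine Subtype.ext (show (x : G) = 1 from ?_)
    rw [show (x : G) = D.xi c from hc.symm, show c = ofAdd 0 from toAdd.injective h1]
    exact map_one _
  have hKA : K ⊔ A = U := by
    refine le_antisymm (sup_le hKU hAU) fun x hx => ?_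
    rw [hUdef, Sylow.coe_subtype, Subgroup.mem_subgroupOf] at hx
    obtain ⟨v, c, e⟩ := (D.P_form _).1 hx
    rw [show x = ⟨_, D.mu_mem_N v⟩ * ⟨_, D.xi_mem_N c⟩ from Subtype.ext e]
    exact mul_mem (Subgroup.mem_sup_left ⟨_, rfl⟩) (Subgroup.mem_sup_right ⟨_, rfl⟩)
  obtain ⟨H, hH⟩ := Cfsg.Agent.S0051.result K U hKU hcop A hAU hAK hKA
  refine ⟨H.map D.N.subtype, Subgroup.map_subtype_le H, ?_, ?_, ?_⟩
  · refine le_antisymm (sup_le hMN (Subgroup.map_subtype_le H)) fun g hg => ?_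
    obtain ⟨⟨k, j⟩, e⟩ := hH.2 ⟨g, hg⟩
    rw [show g = (k.1 : G) * (j.1 : G) from (congrArg Subtype.val e).symm]
    exact mul_mem (Subgroup.mem_sup_left k.2) (Subgroup.mem_sup_right ⟨j.1, j.2, rfl⟩)
  · rw [eq_bot_iff]
    rintro _ ⟨hgM, j, hj, rfl⟩
    have : j ∈ (⊥ : Subgroup D.N) := hH.disjoint.eq_bot ▸ ⟨hgM, hj⟩
    rw [Subgroup.mem_bot] at this
    rw [this]; exact map_one _
  · obtain ⟨φ⟩ := (D.hyp hp hn hcard h4).main
    have hbij : Function.Bijective (D.rho.rangeRestrict.comp H.subtype) := by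
      constructor
      · rw [injective_iff_map_eq_one]
        intro x hx
        have h1 : (x : D.N) ∈ D.rho.ker := congrArg Subtype.val hx
        rw [D.ker_rho] at h1
        have : (x : D.N) ∈ (⊥ : Subgroup D.N) := hH.disjoint.eq_bot ▸ ⟨h1, x.2⟩
        exact Subtype.ext (Subgroup.mem_bot.1 this)
      · rintro ⟨_, g, rfl⟩
        obtain ⟨⟨k, j⟩, e⟩ := hH.2 g
        refine ⟨j, Subtype.ext ?_⟩
        have hk : D.rho k.1 = 1 := by rw [← MonoidHom.mem_ker, D.ker_rho]; exact k.2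
        show D.rho j.1 = D.rho g
        rw [← e, map_mul, hk, one_mul]
    exact ⟨(H.equivMapOfInjective _ D.N.subtype_injective).symm.trans
      ((MulEquiv.ofBijective _ hbij).trans φ)⟩

end Cfsg.Agent.Transfer.SpFourLocal
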