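import Mathlib

/-!
The action of the Levi factor of the Siegel parabolic of `Sp₄` on symmetric matrices `(z, a, b)`.
-/

set_option autoImplicit false

namespace Cfsg.Agent.Transfer.SpFourLocal

open Equiv

variable {F : Type*} [Field F]

/-- Symmetric two-by-two matrices `!![z, a; a, b]`, as triples. -/
abbrev V (F : Type*) : Type _ := F × F × F

/-- The transvection `!![1, c; 0, 1]` acting. -/
def Xp (c : F) : Perm (V F) where
  toFun v := (v.1 + 2 * c * v.2.1 + c ^ 2 * v.2.2, v.2.1 + c * v.2.2, v.2.2)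
  invFun v := (v.1 - 2 * c * v.2.1 + c ^ 2 * v.2.2, v.2.1 - c * v.2.2, v.2.2)
  left_inv := fun ⟨z, a, b⟩ => by ext <;> simp <;> ring
  right_inv := fun ⟨z, a, b⟩ => by ext <;> simp <;> ring

/-- The diagonal matrix `diag(u, v)` acting. -/
def Dp (u v : Fˣ) : Perm (V F) where
  toFun w := ((u : F) ^ 2 * w.1, (u : F) * v * w.2.1, (v : F) ^ 2 * w.2.2)
  invFun w := (((u⁻¹ : Fˣ) : F) ^ 2 * w.1, ((u⁻¹ : Fˣ) : F) * (v⁻¹ : Fˣ) * w.2.1,
    ((v⁻¹ : Fˣ) : F) ^ 2 * w.2.2)
  left_inv := fun ⟨z, a, b⟩ => by ext <;> simp <;> field_simp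
  right_inv := fun ⟨z, a, b⟩ => by ext <;> simp <;> field_simp

/-- A scalar. -/
def Sc (l : Fˣ) : Perm (V F) where
  toFun w := ((l : F) * w.1, (l : F) * w.2.1, (l : F) * w.2.2)
  invFun w := (((l⁻¹ : Fˣ) : F) * w.1, ((l⁻¹ : Fˣ) : F) * w.2.1, ((l⁻¹ : Fˣ) : F) * w.2.2)
  left_inv := fun ⟨z, a, b⟩ => by ext <;> simp
  right_inv := fun ⟨z, a, b⟩ => by ext <;> simp

/-- The exchange of the two lines. -/
def Sw : Perm (V F) where
  toFun w := (w.2.2, w.2.1, w.1)
  invFun w := (w.2.2, w.2.1, w.1)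
  left_inv := fun _ => rfl
  right_inv := fun _ => rfl

/-- The shear adding a multiple of `b` to `z`; it commutes with every `Xp`. -/
def Sh (e : F) : Perm (V F) where
  toFun w := (w.1 + e * w.2.2, w.2.1, w.2.2)
  invFun w := (w.1 - e * w.2.2, w.2.1, w.2.2)
  left_inv := fun ⟨z, a, b⟩ => by ext <;> simp
  right_inv := fun ⟨z, a, b⟩ => by ext <;> simp

/-- The involution `diag(1, -1)`. -/
def tt : Perm (V F) := Dp 1 (-1)

@[simp] theorem Xp_apply (c z a b : F) : Xp c (z, a, b) = (z + 2 * c * a + c ^ 2 * b, a + c * b, b) := rfl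

@[simp] theorem Dp_apply (u v : Fˣ) (z a b : F) :
    Dp u v (z, a, b) = ((u : F) ^ 2 * z, (u : F) * v * a, (v : F) ^ 2 * b) := rfl

@[simp] theorem Sc_apply (l : Fˣ) (z a b : F) :
    Sc l (z, a, b) = ((l : F) * z, (l : F) * a, (l : F) * b) := rfl

@[simp] theorem Sw_apply (z a b : F) : Sw (z, a, b) = (b, a, z) := rfl

@[simp] theorem Sh_apply (e z a b : F) : Sh e (z, a, b) = (z + e * b, a, b) := rfl

@[simp] theorem Sh_inv_apply (e z a b : F) : (Sh e)⁻¹ (z, a, b) = (z - e * b, a, b) := rfl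

@[simp] theorem tt_apply (z a b : F) : tt (z, a, b) = (z, -a, b) := by
  simp [tt]

theorem perm_ext {f g : Perm (V F)} (h : ∀ z a b, f (z, a, b) = g (z, a, b)) : f = g :=
  Equiv.ext fun ⟨z, a, b⟩ => h z a b

theorem Xp_zero : Xp (0 : F) = 1 := perm_ext fun z a b => by simp

theorem Xp_add (c d : F) : Xp (c + d) = Xp c * Xp d := perm_ext fun z a b => by
  simp only [Perm.mul_apply, Xp_apply]
  refine Prod.ext (by ring) (Prod.ext (by ring) rfl)

theorem Xp_inv (c : F) : (Xp c)⁻¹ = Xp (-c) :=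
  inv_eq_of_mul_eq_one_right (by rw [← Xp_add, add_neg_cancel, Xp_zero])

theorem Xp_injective : Function.Injective (Xp (F := F)) := fun c d h => by
  have := congrArg (fun f : Perm (V F) => f ((0 : F), (0 : F), (1 : F))) h
  simp only [Xp_apply, mul_one, zero_add, Prod.mk.injEq] at this
  exact this.2.1

theorem Xp_eq_one_iff {c : F} : Xp c = 1 ↔ c = 0 :=
  ⟨fun h => Xp_injective (h.trans Xp_zero.symm), fun h => h ▸ Xp_zero⟩

theorem Dp_mul (u v u' v' : Fˣ) : Dp u v * Dp u' v' = Dp (u * u') (v * v') := perm_ext fun z a b => by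
  simp only [Perm.mul_apply, Dp_apply, Units.val_mul]
  refine Prod.ext (by ring) (Prod.ext (by ring) (by ring))

theorem Dp_one : Dp (1 : Fˣ) 1 = 1 := perm_ext fun z a b => by simp

theorem Dp_inv (u v : Fˣ) : (Dp u v)⁻¹ = Dp u⁻¹ v⁻¹ :=
  inv_eq_of_mul_eq_one_right (by rw [Dp_mul, mul_inv_cancel, mul_inv_cancel, Dp_one])

theorem Dp_self (u : Fˣ) : Dp u u = Sc (u ^ 2) := perm_ext fun z a b => by
  simp only [Dp_apply, Sc_apply, Units.val_pow_eq_pow_val]
  refine Prod.ext rfl (Prod.ext (by ring) rfl)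

theorem Dp_mul_Xp (u v : Fˣ) (c : F) : Dp u v * Xp c = Xp ((u : F) * c * ((v⁻¹ : Fˣ) : F)) * Dp u v :=
  perm_ext fun z a b => by
    simp only [Perm.mul_apply, Dp_apply, Xp_apply, Units.val_inv_eq_inv_val]
    have hv : (v : F) ≠ 0 := v.ne_zero
    refine Prod.ext ?_ (Prod.ext ?_ rfl) <;> field_simp

theorem tt_mul_Xp (c : F) : tt * Xp c = Xp (-c) * tt := by
  rw [tt, Dp_mul_Xp]
  simp

theorem tt_mul_self : (tt : Perm (V F)) * tt = 1 := perm_ext fun z a b => by simp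

theorem tt_inv : (tt : Perm (V F))⁻¹ = tt := inv_eq_of_mul_eq_one_right tt_mul_self

theorem Sh_Xp (e c : F) : Sh e * Xp c = Xp c * Sh e := perm_ext fun z a b => by
  simp only [Perm.mul_apply, Sh_apply, Xp_apply]
  refine Prod.ext (by ring) rfl

theorem Sh_Dp (e : F) (s : Fˣ) (hs : (s : F) ^ 2 = 1 ∨ e = 0) : Sh e * Dp 1 s = Dp 1 s * Sh e :=
  perm_ext fun z a b => by
    simp only [Perm.mul_apply, Sh_apply, Dp_apply, Units.val_one]
    refine Prod.ext ?_ rfl
    rcases hs with h | h <;> rw [h] <;> ring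

/-- The conjugate of `tt` by `Xp r`: it fixes exactly the triples with `a = r b`. -/
def tc (r : F) : Perm (V F) := Xp r * tt * Xp (-r)

theorem tc_apply (r z a b : F) :
    tc r (z, a, b) = (z - 4 * r * a + 4 * r ^ 2 * b, -a + 2 * r * b, b) := by
  simp only [tc, Perm.mul_apply, Xp_apply, tt_apply]
  refine Prod.ext (by ring) (Prod.ext (by ring) rfl)

theorem tc_zero : tc (0 : F) = tt := by simp [tc, Xp_zero]

theorem tc_fix_iff (h2 : (2 : F) ≠ 0) (r z a b : F) : tc r (z, a, b) = (z, a, b) ↔ a = r * b := by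
  rw [tc_apply]
  simp only [Prod.mk.injEq, and_true]
  constructor
  · rintro ⟨-, h⟩
    refine mul_left_cancel₀ h2 ?_
    linear_combination -h
  · rintro rfl
    exact ⟨by ring, by ring⟩

theorem Xp_fix_iff (h2 : (2 : F) ≠ 0) {c : F} (hc : c ≠ 0) (z a b : F) :
    Xp c (z, a, b) = (z, a, b) ↔ a = 0 ∧ b = 0 := by
  constructor
  · intro h
    simp only [Xp_apply, Prod.mk.injEq, and_true, add_eq_left, mul_eq_zero, hc, false_or] at h
    obtain ⟨h1, hb⟩ := h
    subst hb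
    simp only [mul_zero, add_zero, add_eq_left, mul_eq_zero, h2, hc, false_or] at h1
    exact ⟨h1, rfl⟩
  · rintro ⟨rfl, rfl⟩
    simp

end Cfsg.Agent.Transfer.SpFourLocal
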