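import Cfsg.Agent.Lib.Transfer.SpFourLocal.Orbit

/-!
Exactly one graph occurs; after a shear it is the zero graph.
-/

set_option autoImplicit false
set_option linter.unusedSectionVars false

namespace Cfsg.Agent.Transfer.SpFourLocal

open Equiv Subgroup MulAction
open scoped Pointwise

variable {F : Type*} [Field F] [Finite F] {p n : ℕ} {W : Subgroup (Perm (V F))} (h : Hyp p n W)
include h

theorem Hyp.neg_one_ne : (-1 : F) ≠ 1 := fun e => h.two_ne (by linear_combination -e)

theorem Hyp.card_units : Nat.card Fˣ = Nat.card F - 1 := Nat.card_units F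

/-- Half of `q - 1`. -/
theorem Hyp.card_squares :
    ∃ m, Nat.card F = 2 * m + 1 ∧ Odd m ∧ Nat.card (powMonoidHom 2 : Fˣ →* Fˣ).range = m := by
  set f := (powMonoidHom 2 : Fˣ →* Fˣ)
  have hker : Nat.card f.ker = 2 := by
    rw [Nat.card_eq_two_iff]
    refine ⟨1, ⟨-1, by simp [f, MonoidHom.mem_ker]⟩, fun e => ?_, ?_⟩
    · exact h.neg_one_ne (by simpa using (congrArg (fun x : f.ker => ((x : Fˣ) : F)) e).symm)
    · ext ⟨x, hx⟩
      simp only [Set.mem_insert_iff, Set.mem_singleton_iff, Set.mem_univ, iff_true]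
      have hx2 : (x : F) * x = 1 := by
        have := congrArg Units.val (MonoidHom.mem_ker.1 hx)
        simpa [f, sq] using this
      rcases mul_self_eq_one_iff.1 hx2 with e | e
      · exact Or.inl (Subtype.ext (Units.ext e))
      · exact Or.inr (Subtype.ext (Units.ext (by rw [e]; simp)))
  have hc : Nat.card Fˣ = 2 * Nat.card f.range := by
    rw [← hker, ← Subgroup.index_ker f, Subgroup.card_mul_index]
  rw [h.card_units] at hc
  have h4 := h.four'
  refine ⟨_, ?_, ?_, rfl⟩
  · omega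
  · rw [Nat.odd_iff]; omega

theorem Hyp.graphs_scale {φ : F → F} (hφ : φ ∈ Graphs W) (u : Fˣ) :
    (fun b => φ ((u : F) ^ 2 * b)) ∈ Graphs W := by
  obtain ⟨g, hg, hgr⟩ := hφ
  refine ⟨Dp 1 u⁻¹ * g, mul_mem (h.tmem _) hg, fun b => ?_⟩
  obtain ⟨z, hz⟩ := hgr ((u : F) ^ 2 * b)
  refine ⟨z, ?_⟩
  rw [Perm.mul_apply, hz, Dp_apply]
  refine Prod.ext ?_ (Prod.ext ?_ ?_) <;> simp

/-- The orbit of a nonzero graph under the squares embeds. -/
theorem Hyp.orbit_graph {φ : F → F} (hφ : φ ∈ Graphs W) (h0 : φ ≠ 0) :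
    ∃ f : (powMonoidHom 2 : Fˣ →* Fˣ).range → Graphs W, Function.Injective f ∧
      ∀ x, ((f x : Graphs W) : F → F) = fun b => φ (((x : Fˣ) : F) * b) := by
  have hmem : ∀ x : (powMonoidHom 2 : Fˣ →* Fˣ).range, (fun b => φ (((x : Fˣ) : F) * b)) ∈ Graphs W := by
    rintro ⟨_, u, rfl⟩
    simpa using h.graphs_scale hφ u
  refine ⟨fun x => ⟨_, hmem x⟩, fun x y e => ?_, fun x => rfl⟩
  have e' : (fun b => φ (((x : Fˣ) : F) * b)) = fun b => φ (((y : Fˣ) : F) * b) := congrArg Subtype.val e
  by_contra hxy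
  refine h0 (funext fun b => ?_)
  have hd : ((x : Fˣ) : F) - ((y : Fˣ) : F) ≠ 0 := sub_ne_zero.2 fun e2 => hxy (Subtype.ext (Units.ext e2))
  have hsplit := h.graphs_add hφ (((y : Fˣ) : F) * (b / (((x : Fˣ) : F) - ((y : Fˣ) : F)))) b
  have hb : ((y : Fˣ) : F) * (b / (((x : Fˣ) : F) - ((y : Fˣ) : F))) + b =
      ((x : Fˣ) : F) * (b / (((x : Fˣ) : F) - ((y : Fˣ) : F))) := by field_simp; ring
  rw [hb] at hsplit
  have := congrFun e' (b / (((x : Fˣ) : F) - ((y : Fˣ) : F)))
  show φ b = 0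
  linear_combination this - hsplit

theorem Hyp.graphs_subsingleton : ∃ e : F, Graphs W = {fun b => e * b} ∧ (e = 0 ∨ ∀ s : Fˣ, (s : F) ^ 2 = 1) := by
  obtain ⟨m, hq, hm, hQ⟩ := h.card_squares
  obtain ⟨φ₀, hφ₀⟩ := h.graphs_nonempty
  have hk := h.count_dvd
  have hk1 : 1 ≤ Nat.card (Graphs W) := by
    haveI : Nonempty (Graphs W) := ⟨⟨φ₀, hφ₀⟩⟩
    exact Nat.card_pos
  rcases Nat.lt_or_ge 1 m with hm1 | hm1
  · refine ⟨0, ?_, Or.inl rfl⟩
    have hzero : ∀ φ ∈ Graphs W, φ = 0 := by
      intro φ hφ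
      classical
      by_contra h0
      obtain ⟨f, hf, hfx⟩ := h.orbit_graph hφ h0
      have hmk : m ≤ Nat.card (Graphs W) := hQ ▸ Nat.card_le_card_of_injective f hf
      have hcover : ∀ ψ : Graphs W, (ψ : F → F) = 0 ∨ ∃ x, f x = ψ := by
        intro ψ
        by_contra hc
        push Not at hc
        obtain ⟨g, hg, hgx⟩ := h.orbit_graph ψ.2 hc.1
        have hinj : Function.Injective (Sum.elim f g) := by
          refine hf.sumElim hg fun x y e => hc.2 (x * y⁻¹) (Subtype.ext (funext fun b => ?_))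
          have e' : ((f x : Graphs W) : F → F) = ((g y : Graphs W) : F → F) := congrArg Subtype.val e
          rw [hfx, hgx] at e'
          have := congrFun e' ((((y : Fˣ)⁻¹ : Fˣ) : F) * b)
          simp only [← mul_assoc] at this
          rw [hfx]
          simpa using this
        have := Nat.card_le_card_of_injective _ hinj
        rw [Nat.card_sum, hQ] at this
        have := Nat.le_of_dvd (by omega) hk
        omega
      have hle : Nat.card (Graphs W) ≤ m + 1 := by
        have hinj : Function.Injective (fun ψ : Graphs W =>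
            if hψ : (ψ : F → F) = 0 then none else some ((hcover ψ).resolve_left hψ).choose) := by
          intro a b e
          simp only at e
          split_ifs at e with ha hb hb
          · exact Subtype.ext (ha.trans hb.symm)
          · rw [← ((hcover a).resolve_left ha).choose_spec, ← ((hcover b).resolve_left hb).choose_spec,
              Option.some.inj e]
        have := Nat.card_le_card_of_injective _ hinj
        rwa [Finite.card_option, hQ] at this
      obtain ⟨c, hc⟩ := hk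
      rw [hq, Nat.add_sub_cancel] at hc
      have : c < 2 := by
        by_contra hc2
        have : (Nat.card (Graphs W) + 1) * 2 ≤ (Nat.card (Graphs W) + 1) * c :=
          Nat.mul_le_mul_left _ (by omega)
        omega
      interval_cases c
      · omega
      · have := Nat.odd_iff.1 hm
        omega
    ext φ
    simp only [Set.mem_singleton_iff, zero_mul]
    refine ⟨hzero φ, fun e => ?_⟩
    rw [e]
    have := hzero φ₀ hφ₀
    subst this
    exact hφ₀
  · have hm' : m = 1 := by have := Nat.odd_iff.1 hm; omega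
    subst hm'
    have hall : ∀ b : F, b = 0 ∨ b = 1 ∨ b = -1 := by
      intro b
      rcases eq_or_ne b 0 with hb | hb
      · exact Or.inl hb
      haveI := Fintype.ofFinite F
      have := FiniteField.pow_card_sub_one_eq_one b hb
      rw [Fintype.card_eq_nat_card, hq, show 2 * 1 + 1 - 1 = 2 from rfl, sq] at this
      exact Or.inr (mul_self_eq_one_iff.1 this)
    refine ⟨φ₀ 1, ?_, Or.inr fun s => ?_⟩
    · have hlin : ∀ b, φ₀ b = φ₀ 1 * b := by
        intro b
        have h0 : φ₀ 0 = 0 := by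
          have := h.graphs_add hφ₀ 0 0
          simpa using this
        rcases hall b with rfl | rfl | rfl
        · rw [h0, mul_zero]
        · rw [mul_one]
        · have := h.graphs_add hφ₀ 1 (-1)
          rw [add_neg_cancel, h0] at this
          linear_combination -this
      have hone : Nat.card (Graphs W) = 1 := by
        have := Nat.le_of_dvd (by omega) hk
        omega
      haveI : Subsingleton (Graphs W) := (Nat.card_eq_one_iff_unique.1 hone).1
      ext φ
      simp only [Set.mem_singleton_iff]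
      refine ⟨fun hφ => ?_, fun e => by rw [e, ← funext hlin]; exact hφ₀⟩
      have : (⟨φ, hφ⟩ : Graphs W) = ⟨φ₀, hφ₀⟩ := Subsingleton.elim _ _
      exact (congrArg Subtype.val this).trans (funext hlin)
    · rcases hall (s : F) with e | e | e
      · exact absurd e s.ne_zero
      · rw [e, one_pow]
      · rw [e, neg_one_sq]

/-- Conjugating by the shear gives a group with the same hypotheses in which only the zero graph occurs. -/
theorem Hyp.normalise : ∃ e : F, Hyp p n (W.map (MulAut.conj ((Sh e)⁻¹ : Perm (V F))).toMonoidHom) ∧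
    Graphs (W.map (MulAut.conj ((Sh e)⁻¹ : Perm (V F))).toMonoidHom) = {fun _ => 0} := by
  obtain ⟨e, hG, he⟩ := h.graphs_subsingleton
  refine ⟨e, ?_⟩
  set σ := (MulAut.conj ((Sh e)⁻¹ : Perm (V F))).toMonoidHom
  have hσ : ∀ w, σ w = (Sh e)⁻¹ * w * Sh e := fun w => by simp [σ]
  have hsh : ∀ u v : V F, Sh e (u + v) = Sh e u + Sh e v := fun ⟨a, b, c⟩ ⟨a', b', c'⟩ => by
    simp only [Prod.mk_add_mk, Sh_apply]
    refine Prod.ext (by ring) rfl
  have hfix : ∀ z : F, Sh e (z, 0, 0) = (z, 0, 0) := fun z => by simp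
  have hfix' : ∀ z : F, (Sh e)⁻¹ (z, (0 : F), (0 : F)) = (z, 0, 0) := fun z => by simp
  have hX : ∀ c : F, σ (Xp c) = Xp c := fun c => by
    rw [hσ, mul_assoc, ← Sh_Xp, inv_mul_cancel_left]
  have hT : ∀ s : Fˣ, σ (Dp 1 s) = Dp 1 s := fun s => by
    have : (s : F) ^ 2 = 1 ∨ e = 0 := he.elim Or.inr fun f => Or.inl (f s)
    rw [hσ, mul_assoc, ← Sh_Dp e s this, inv_mul_cancel_left]
  refine ⟨⟨h.prime, h.odd, h.npos, h.card, h.four, ?_, ?_, ?_, ?_, ?_, ?_, ?_⟩, ?_⟩
  · rintro _ ⟨w, hw, rfl⟩ u v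
    rw [hσ]
    simp only [Perm.mul_apply, hsh, h.add w hw]
    apply (Sh e).injective
    simp [hsh]
  · exact fun c => ⟨Xp c, h.xmem c, hX c⟩
  · exact fun s => ⟨Dp 1 s, h.tmem s, hT s⟩
  · rintro _ ⟨w, hw, rfl⟩ z hz hwz
    rw [hσ, Perm.mul_apply, Perm.mul_apply, hfix, Perm.inv_eq_iff_eq, hfix] at hwz
    obtain ⟨c, s, rfl⟩ := h.stab w hw z hz hwz
    exact ⟨c, s, by rw [map_mul, hX, hT]⟩
  · rw [Subgroup.card_map_of_injective (MulEquiv.injective _)]
    exact h.pcard
  · obtain ⟨z₁, z₂, h1, h2, hne⟩ := h.classes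
    refine ⟨z₁, z₂, h1, h2, ?_⟩
    rintro _ ⟨w, hw, rfl⟩ e'
    rw [hσ, Perm.mul_apply, Perm.mul_apply, hfix, Perm.inv_eq_iff_eq, hfix] at e'
    exact hne w hw e'
  · obtain ⟨w, hw, z, hz⟩ := h.moves
    refine ⟨σ w, ⟨w, hw, rfl⟩, z, ?_⟩
    rw [hσ, Perm.mul_apply, Perm.mul_apply, hfix]
    obtain ⟨a, b, c, habc⟩ : ∃ a b c, w (z, 0, 0) = (a, b, c) := ⟨_, _, _, rfl⟩
    rw [habc] at hz ⊢
    simpa using hz
  · ext φ
    simp only [Set.mem_singleton_iff]
    constructor
    · rintro ⟨_, ⟨w, hw, rfl⟩, hgr⟩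
      have : (fun b => φ b + e * b) ∈ Graphs W := by
        refine ⟨w, hw, fun b => ?_⟩
        obtain ⟨z, hz⟩ := hgr b
        refine ⟨z, ?_⟩
        rw [hσ, Perm.mul_apply, Perm.mul_apply, hfix, Perm.inv_eq_iff_eq] at hz
        rw [hz]; simp
      rw [hG, Set.mem_singleton_iff] at this
      funext b
      have := congrFun this b
      simpa using this
    · rintro rfl
      obtain ⟨g, hg, hgr⟩ : (fun b : F => e * b) ∈ Graphs W := by rw [hG]; rfl
      refine ⟨σ g, ⟨g, hg, rfl⟩, fun b => ?_⟩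
      obtain ⟨z, hz⟩ := hgr b
      refine ⟨z, ?_⟩
      rw [hσ, Perm.mul_apply, Perm.mul_apply, hfix, hz, Sh_inv_apply]
      simp

end Cfsg.Agent.Transfer.SpFourLocal
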