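import Cfsg.Agent.Lib.Transfer.SpFourLocal.Count

/-!
Counting the conjugates of the line: if `k` graphs occur, `k + 1` divides `q - 1`.
-/

set_option autoImplicit false
set_option linter.unusedSectionVars false

namespace Cfsg.Agent.Transfer.SpFourLocal

open Equiv Subgroup MulAction
open scoped Pointwise

variable {F : Type*} [Field F] [Finite F]

/-- The line, as a set. -/
def lineSet (F : Type*) [Field F] : Set (V F) := {v | v.2 = 0}

/-- A graph, as a set. -/
def graphSet (φ : F → F) : Set (V F) := {v | v.2.1 = 0 ∧ v.1 = φ v.2.2}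

variable {p n : ℕ} {W : Subgroup (Perm (V F))} (h : Hyp p n W)
include h

theorem Hyp.smul_line_of_graph {g : Perm (V F)} {φ : F → F} (hgr : IsGraph g φ) :
    g • lineSet F = graphSet φ := by
  ext v
  constructor
  · rintro ⟨⟨z, a, b⟩, hv, rfl⟩
    change (a, b) = 0 at hv
    obtain ⟨rfl, rfl⟩ : a = 0 ∧ b = 0 := Prod.ext_iff.1 hv
    have := IsGraph.spec h hgr z
    exact ⟨show (g (z, 0, 0)).2.1 = 0 by rw [this],
      show (g (z, 0, 0)).1 = φ (g (z, 0, 0)).2.2 by conv_lhs => rw [this]⟩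
  · rintro ⟨h1, h2⟩
    obtain ⟨z, hz⟩ := hgr v.2.2
    exact ⟨(z, 0, 0), rfl, show g (z, 0, 0) = v by rw [hz, ← h2, ← h1]⟩

theorem Hyp.smul_line_eq {g : Perm (V F)} (hg : ∀ z, (g (z, 0, 0)).2 = 0) : g • lineSet F = lineSet F := by
  have hinj : Function.Injective fun z => (g (z, 0, 0)).1 := fun x y e => by
    have := g.injective (Prod.ext e ((hg x).trans (hg y).symm))
    exact congrArg Prod.fst this
  ext v
  constructor
  · rintro ⟨⟨z, a, b⟩, hv, rfl⟩
    change (a, b) = 0 at hv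
    obtain ⟨rfl, rfl⟩ : a = 0 ∧ b = 0 := Prod.ext_iff.1 hv
    exact hg z
  · intro hv
    obtain ⟨z, hz⟩ := (Finite.injective_iff_surjective.1 hinj) v.1
    exact ⟨(z, 0, 0), rfl, Prod.ext hz ((hg z).trans hv.symm)⟩

omit h in
theorem Xp_smul_line (c : F) : Xp c • lineSet F = lineSet F := by
  ext v
  constructor
  · rintro ⟨⟨z, a, b⟩, hv, rfl⟩
    change (a, b) = 0 at hv
    obtain ⟨rfl, rfl⟩ : a = 0 ∧ b = 0 := Prod.ext_iff.1 hv
    show (Xp c (z, 0, 0)).2 = 0
    simp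
  · intro hv
    obtain ⟨z, a, b⟩ := v
    change (a, b) = 0 at hv
    obtain ⟨rfl, rfl⟩ : a = 0 ∧ b = 0 := Prod.ext_iff.1 hv
    exact ⟨(z, 0, 0), rfl, by simp⟩

theorem Hyp.line_or_graph {w : Perm (V F)} (hw : w ∈ W) :
    w • lineSet F = lineSet F ∨
      ∃ (r : F) (φ : F → F), φ ∈ Graphs W ∧ w • lineSet F = Xp r • graphSet φ := by
  by_cases hm : ∀ z, (w (z, 0, 0)).2 = 0
  · exact Or.inl (h.smul_line_eq hm)
  push Not at hm
  obtain ⟨z, hz⟩ := hm
  obtain ⟨r, φ, hφ⟩ := h.graph_of_moves hw hz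
  refine Or.inr ⟨r, φ, ⟨_, mul_mem (h.xmem _) hw, hφ⟩, ?_⟩
  rw [← h.smul_line_of_graph hφ, smul_smul, ← mul_assoc, ← Xp_add, add_neg_cancel, Xp_zero, one_mul]

omit h in
theorem mem_Xp_graphSet (r : F) (φ : F → F) (b : F) :
    ((φ b + r ^ 2 * b, r * b, b) : V F) ∈ Xp r • graphSet φ :=
  ⟨(φ b, 0, b), ⟨rfl, rfl⟩, by simp⟩

omit h in
theorem Xp_graphSet_inj {r s : F} {φ ψ : F → F} (e : Xp r • graphSet φ = Xp s • graphSet ψ) :
    r = s ∧ φ = ψ := by
  have hr : r = s := by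
    obtain ⟨⟨z, a, b⟩, ⟨ha, hz⟩, hv⟩ := e ▸ mem_Xp_graphSet r φ 1
    change a = 0 at ha
    subst ha
    simp only [Perm.smul_def, Xp_apply, zero_add, Prod.mk.injEq] at hv
    obtain ⟨-, h2, rfl⟩ := hv
    simpa using h2.symm
  subst hr
  refine ⟨rfl, funext fun b => ?_⟩
  have e' := smul_left_cancel _ e
  have : ((φ b, 0, b) : V F) ∈ graphSet φ := ⟨rfl, rfl⟩
  rw [e'] at this
  exact this.2

omit h in
theorem Xp_graphSet_ne_line (r : F) (φ : F → F) : Xp r • graphSet φ ≠ lineSet F := by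
  intro e
  have := e ▸ mem_Xp_graphSet r φ 1
  exact one_ne_zero (congrArg Prod.snd (show ((r * 1, (1 : F)) : F × F) = 0 from this))

omit h in
theorem graphSet_ne_line (φ : F → F) : graphSet φ ≠ lineSet F := fun e =>
  Xp_graphSet_ne_line 0 φ (by rw [Xp_zero, one_smul]; exact e)

theorem Hyp.card_orbit : Nat.card (orbit W (lineSet F)) = Nat.card F * Nat.card (Graphs W) + 1 := by
  rw [← Nat.card_prod, ← Finite.card_option]
  have hmem : ∀ x : Option (F × Graphs W),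
      (x.elim (lineSet F) fun y => Xp y.1 • graphSet y.2.1) ∈ orbit W (lineSet F) := by
    rintro (_ | ⟨r, φ, g, hg, hgr⟩)
    · exact mem_orbit_self _
    · refine ⟨⟨Xp r * g, mul_mem (h.xmem r) hg⟩, ?_⟩
      show (Xp r * g) • lineSet F = _
      rw [← smul_smul, h.smul_line_of_graph hgr]
      rfl
  refine (Nat.card_eq_of_bijective (fun x => (⟨_, hmem x⟩ : orbit W (lineSet F))) ⟨?_, ?_⟩).symm
  · intro x y e
    have e' := congrArg Subtype.val e
    rcases x with _ | ⟨r, φ⟩ <;> rcases y with _ | ⟨s, ψ⟩ <;>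
      simp only [Option.elim_none, Option.elim_some] at e'
    · rfl
    · exact absurd e'.symm (Xp_graphSet_ne_line _ _)
    · exact absurd e' (Xp_graphSet_ne_line _ _)
    · obtain ⟨rfl, e2⟩ := Xp_graphSet_inj e'
      rw [Subtype.ext e2]
  · rintro ⟨_, ⟨w, hw⟩, rfl⟩
    rcases h.line_or_graph hw with e | ⟨r, φ, hφ, e⟩
    · exact ⟨none, Subtype.ext e.symm⟩
    · exact ⟨some (r, ⟨φ, hφ⟩), Subtype.ext e.symm⟩

omit h in
/-- The centralizer of `tt` in `W`. -/
def centT (W : Subgroup (Perm (V F))) : Subgroup (Perm (V F)) := W ⊓ centralizer {tt}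

omit h in
theorem mem_centT {w : Perm (V F)} : w ∈ centT W ↔ w ∈ W ∧ w * tt = tt * w := by
  rw [centT, Subgroup.mem_inf, Subgroup.mem_centralizer_singleton_iff]

theorem Hyp.centT_cases {w : Perm (V F)} (hw : w ∈ centT W) :
    w • lineSet F = lineSet F ∨ ∃ φ ∈ Graphs W, w • lineSet F = graphSet φ := by
  obtain ⟨hwW, hc⟩ := mem_centT.1 hw
  rcases h.line_or_graph hwW with e | ⟨r, φ, hφ, e⟩
  · exact Or.inl e
  refine Or.inr ⟨φ, hφ, ?_⟩
  have ht : (tt : Perm (V F)) • lineSet F = lineSet F := h.smul_line_eq fun z => by simp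
  have e2 : (tt : Perm (V F)) • (w • lineSet F) = w • lineSet F := by
    rw [smul_smul, ← hc, ← smul_smul, ht]
  obtain ⟨g, hg, hgc, hgr⟩ := h.graph_commute hφ
  have hgs : (tt : Perm (V F)) • graphSet φ = graphSet φ := by
    rw [← h.smul_line_of_graph hgr, smul_smul, ← hgc, ← smul_smul, ht]
  rw [e, smul_smul, tt_mul_Xp, ← smul_smul, hgs] at e2
  obtain ⟨h1, -⟩ := Xp_graphSet_inj e2
  have hr : r = 0 := mul_left_cancel₀ h.two_ne (by linear_combination -h1)
  rw [e, hr, Xp_zero, one_smul]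

theorem Hyp.card_orbit_centT :
    Nat.card (orbit (centT W) (lineSet F)) = Nat.card (Graphs W) + 1 := by
  rw [← Finite.card_option]
  have hmem : ∀ x : Option (Graphs W),
      (x.elim (lineSet F) fun φ => graphSet φ.1) ∈ orbit (centT W) (lineSet F) := by
    rintro (_ | ⟨φ, hφ⟩)
    · exact mem_orbit_self _
    · obtain ⟨g, hg, hgc, hgr⟩ := h.graph_commute hφ
      exact ⟨⟨g, mem_centT.2 ⟨hg, hgc⟩⟩, h.smul_line_of_graph hgr⟩
  refine (Nat.card_eq_of_bijective (fun x => (⟨_, hmem x⟩ : orbit (centT W) (lineSet F))) ⟨?_, ?_⟩).symm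
  · intro x y e
    have e' := congrArg Subtype.val e
    rcases x with _ | φ <;> rcases y with _ | ψ <;> simp only [Option.elim_none, Option.elim_some] at e'
    · rfl
    · exact absurd e'.symm (graphSet_ne_line _)
    · exact absurd e' (graphSet_ne_line _)
    · refine congrArg some (Subtype.ext ?_)
      refine (Xp_graphSet_inj (r := (0 : F)) (s := 0) ?_).2
      rw [e']
  · rintro ⟨_, ⟨w, hw⟩, rfl⟩
    rcases h.centT_cases hw with e | ⟨φ, hφ, e⟩
    · exact ⟨none, Subtype.ext e.symm⟩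
    · exact ⟨some ⟨φ, hφ⟩, Subtype.ext e.symm⟩

/-- An element stabilising the line is some `Xp r` times one commuting with `tt`. -/
theorem Hyp.stab_line_decomp {w : Perm (V F)} (hw : w ∈ W) (hl : w • lineSet F = lineSet F) :
    ∃ r : F, Xp (-r) * w ∈ centT W ∧ (Xp (-r) * w) • lineSet F = lineSet F := by
  have hline : ∀ z : F, (w⁻¹ (z, (0 : F), (0 : F))).2 = 0 := fun z => by
    have hl' : w⁻¹ • lineSet F = lineSet F := by rw [inv_smul_eq_iff, hl]
    exact (Set.ext_iff.1 hl' _).1 ⟨(z, 0, 0), rfl, rfl⟩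
  have hm : w * tt * w⁻¹ ∈ W := mul_mem (mul_mem hw h.tt_mem) (inv_mem hw)
  have hfix : (w * tt * w⁻¹ : Perm (V F)) ((1 : F), 0, 0) = (1, 0, 0) := by
    obtain ⟨x, hx⟩ : ∃ x, w⁻¹ ((1 : F), (0 : F), (0 : F)) = (x, 0, 0) := ⟨_, Prod.ext rfl (hline 1)⟩
    rw [Perm.mul_apply, Perm.mul_apply, hx, tt_apply, neg_zero, ← hx]
    simp
  have hne : w * tt * w⁻¹ ≠ 1 := by
    intro e
    refine h.tc_ne_one 0 ?_
    rw [tc_zero]
    exact conj_eq_one_iff.1 e
  have hsq : (w * tt * w⁻¹) * (w * tt * w⁻¹) = 1 := by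
    rw [show (w * tt * w⁻¹) * (w * tt * w⁻¹) = w * (tt * tt) * w⁻¹ by group, tt_mul_self]
    simp
  obtain ⟨r, hr⟩ := h.involution hm one_ne_zero hfix hne hsq
  refine ⟨r, mem_centT.2 ⟨mul_mem (h.xmem _) hw, ?_⟩, by rw [← smul_smul, hl, Xp_smul_line]⟩
  rw [mul_assoc, show w * tt = tc r * w by rw [← hr]; group, tc]
  rw [← mul_assoc, ← mul_assoc, ← mul_assoc, ← Xp_add, neg_add_cancel, Xp_zero, one_mul, mul_assoc]

theorem Hyp.card_stab : Nat.card (stabilizer W (lineSet F)) =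
    Nat.card F * Nat.card (stabilizer (centT W) (lineSet F)) := by
  rw [← Nat.card_prod]
  have hmem : ∀ (r : F) (x : stabilizer (centT W) (lineSet F)),
      (⟨Xp r * x.1.1, mul_mem (h.xmem r) (mem_centT.1 x.1.2).1⟩ : W) ∈ stabilizer W (lineSet F) := by
    intro r x
    show (Xp r * x.1.1) • lineSet F = lineSet F
    rw [← smul_smul, show x.1.1 • lineSet F = lineSet F from x.2, Xp_smul_line]
  refine (Nat.card_eq_of_bijective
    (fun y : F × stabilizer (centT W) (lineSet F) => (⟨_, hmem y.1 y.2⟩ : stabilizer W (lineSet F)))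
    ⟨?_, ?_⟩).symm
  · rintro ⟨r, x⟩ ⟨s, y⟩ e
    have e' : Xp r * x.1.1 = Xp s * y.1.1 := congrArg (fun a => a.1.1) e
    have hx : y.1.1 * x.1.1⁻¹ = Xp (-s + r) := by
      rw [Xp_add, ← Xp_inv]
      calc y.1.1 * x.1.1⁻¹ = (Xp s)⁻¹ * (Xp s * y.1.1) * x.1.1⁻¹ := by group
        _ = _ := by rw [← e']; group
    have hc : Xp (-s + r) * tt = tt * Xp (-s + r) := by
      have := (centT W).mul_mem y.1.2 ((centT W).inv_mem x.1.2)
      rw [hx] at this
      exact (mem_centT.1 this).2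
    rw [tt_mul_Xp, mul_left_inj] at hc
    have hrs : r = s := by
      have := Xp_injective hc
      refine mul_left_cancel₀ h.two_ne ?_
      linear_combination this
    subst hrs
    rw [mul_right_inj] at e'
    rw [show x = y from Subtype.ext (Subtype.ext e')]
  · rintro ⟨⟨w, hw⟩, hl⟩
    obtain ⟨r, hr, hrl⟩ := h.stab_line_decomp hw hl
    refine ⟨(r, ⟨⟨_, hr⟩, hrl⟩), Subtype.ext (Subtype.ext ?_)⟩
    show Xp r * (Xp (-r) * w) = w
    rw [← mul_assoc, ← Xp_add, add_neg_cancel, Xp_zero, one_mul]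

/-- The translations as a homomorphism. -/
def xHom : Multiplicative F →* W where
  toFun c := ⟨Xp c.toAdd, h.xmem _⟩
  map_one' := Subtype.ext Xp_zero
  map_mul' a b := Subtype.ext (Xp_add a.toAdd b.toAdd)

theorem Hyp.not_dvd_card_centT : ¬ p ∣ Nat.card (centT W) := by
  intro hd
  haveI : Fact p.Prime := ⟨h.prime⟩
  obtain ⟨x, hx⟩ := exists_prime_orderOf_dvd_card' (G := centT W) p hd
  obtain ⟨hxW, hxc⟩ := mem_centT.1 x.2
  have hXinj : Function.Injective (xHom h) := fun a b e =>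
    Multiplicative.toAdd.injective (Xp_injective (F := F) (congrArg Subtype.val e))
  have hXc : Nat.card (xHom h).range = p ^ n := by
    rw [← Nat.card_congr (MonoidHom.ofInjective hXinj).toEquiv]
    exact h.card
  obtain ⟨S, hS⟩ := (IsPGroup.of_card hXc).exists_le_sylow
  have hSX : (xHom h).range = (S : Subgroup W) := by
    refine Subgroup.eq_of_le_of_card_ge hS ?_
    obtain ⟨k, hk⟩ := IsPGroup.iff_card.1 S.isPGroup'
    rw [hXc, hk]
    refine Nat.pow_le_pow_right h.prime.pos ?_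
    by_contra hkn
    refine h.pcard ?_
    have : p ^ k ∣ Nat.card W := hk ▸ Subgroup.card_subgroup_dvd_card _
    exact dvd_trans (pow_dvd_pow p (by omega)) this
  have hox : orderOf (⟨x.1, hxW⟩ : W) = p := by
    rw [← Subgroup.orderOf_coe] at hx ⊢
    exact hx
  obtain ⟨T, hT⟩ := (IsPGroup.of_card (n := 1) (by rw [Nat.card_zpowers, hox, pow_one]) :
    IsPGroup p (Subgroup.zpowers (⟨x.1, hxW⟩ : W))).exists_le_sylow
  obtain ⟨g, hg⟩ := MulAction.exists_smul_eq W S T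
  have hxT := hT (Subgroup.mem_zpowers _)
  rw [← hg, Sylow.coe_subgroup_smul] at hxT
  obtain ⟨y, hy, hyx⟩ := hxT
  rw [SetLike.mem_coe, ← hSX] at hy
  obtain ⟨c, rfl⟩ := hy
  have hx' : x.1 = g.1 * Xp (Multiplicative.toAdd c) * g.1⁻¹ := (congrArg Subtype.val hyx).symm
  obtain ⟨c', hc'⟩ : ∃ c' : F, Multiplicative.toAdd c = c' := ⟨_, rfl⟩
  rw [hc'] at hx'
  have hc : c' ≠ 0 := by
    intro e
    rw [e, Xp_zero, mul_one, mul_inv_cancel] at hx'
    rw [show x = 1 from Subtype.ext hx', orderOf_one] at hx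
    exact h.prime.one_lt.ne hx
  -- `tt` fixes the fixed points of `x`
  have hfix : ∀ z : F, tt (g.1 (z, 0, 0)) = g.1 (z, 0, 0) := by
    intro z
    obtain ⟨v, hv⟩ : ∃ v, g.1⁻¹ (tt (g.1 (z, 0, 0))) = v := ⟨_, rfl⟩
    have h1 : Xp c' v = v := by
      have e1 : x.1 (g.1 (z, 0, 0)) = g.1 (z, 0, 0) := by
        rw [hx', Perm.mul_apply, Perm.mul_apply]
        simp
      have e2 : x.1 (tt (g.1 (z, 0, 0))) = tt (g.1 (z, 0, 0)) := by
        rw [← Perm.mul_apply, hxc, Perm.mul_apply, e1]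
      rw [hx', Perm.mul_apply, Perm.mul_apply, hv] at e2
      apply g.1.injective
      rw [e2, ← hv]
      simp
    obtain ⟨v1, v2, v3⟩ := v
    obtain ⟨rfl, rfl⟩ := (Xp_fix_iff h.two_ne hc _ _ _).1 h1
    have hgv : tt (g.1 (z, 0, 0)) = g.1 (v1, 0, 0) := by rw [← hv]; simp
    by_cases hmv : ∀ y, (g.1 (y, 0, 0)).2 = 0
    · obtain ⟨u, hu⟩ : ∃ u, g.1 (z, 0, 0) = (u, 0, 0) := ⟨_, Prod.ext rfl (hmv z)⟩
      simp [hu]
    push Not at hmv
    obtain ⟨y, hy⟩ := hmv
    obtain ⟨r, φ, hφ⟩ := h.graph_of_moves g.2 hy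
    have hz := IsGraph.spec h hφ z
    have hv1 := IsGraph.spec h hφ v1
    simp only [Perm.mul_apply] at hz hv1
    rw [← hgv] at hv1
    obtain ⟨u1, u2, u3, hu⟩ : ∃ u1 u2 u3, g.1 (z, 0, 0) = (u1, u2, u3) := ⟨_, _, _, rfl⟩
    rw [hu] at hz hv1 ⊢
    simp only [tt_apply, Xp_apply, Prod.mk.injEq] at hz hv1 ⊢
    refine ⟨trivial, ?_, trivial⟩
    linear_combination hv1.2.1 - hz.2.1
  have hm : g.1⁻¹ * tt * g.1 ∈ W := mul_mem (mul_mem (inv_mem g.2) h.tt_mem) g.2
  have hne : g.1⁻¹ * tt * g.1 ≠ 1 := by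
    intro e
    refine h.tc_ne_one 0 ?_
    rw [tc_zero]
    simpa [mul_assoc, inv_mul_eq_one] using e
  have hsq : (g.1⁻¹ * tt * g.1) * (g.1⁻¹ * tt * g.1) = 1 := by
    rw [show (g.1⁻¹ * tt * g.1) * (g.1⁻¹ * tt * g.1) = g.1⁻¹ * (tt * tt) * g.1 by group, tt_mul_self]
    simp
  obtain ⟨r, hr⟩ := h.involution hm one_ne_zero (by
    rw [Perm.mul_apply, Perm.mul_apply, hfix]; simp) hne hsq
  have hcomm : tc r * Xp c' = Xp c' * tc r := by
    rw [← hr]
    have := hxc
    rw [hx'] at this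
    calc g.1⁻¹ * tt * g.1 * Xp c'
        = g.1⁻¹ * (tt * (g.1 * Xp c' * g.1⁻¹)) * g.1 := by group
      _ = _ := by rw [← this]; group
  have e1 : tc r * Xp c' = Xp (-c') * tc r := by
    rw [tc, mul_assoc _ (Xp (-r)), ← Xp_add, add_comm (-r) c', Xp_add, ← mul_assoc, mul_assoc _ tt,
      tt_mul_Xp, ← mul_assoc, ← Xp_add, add_comm r, Xp_add]
    group
  rw [e1, mul_left_inj] at hcomm
  refine hc (mul_left_cancel₀ h.two_ne ?_)
  have := Xp_injective hcomm
  linear_combination -this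

omit h [Finite F] in
theorem card_orbit_mul_stab {G : Type*} [Group G] {α : Type*} [MulAction G α] (a : α) :
    Nat.card (orbit G a) * Nat.card (stabilizer G a) = Nat.card G := by
  rw [← Nat.card_prod]
  exact Nat.card_congr (orbitProdStabilizerEquivGroup G a)

theorem Hyp.count_dvd : Nat.card (Graphs W) + 1 ∣ Nat.card F - 1 := by
  have h1 : Nat.card (orbit W (lineSet F)) * Nat.card (stabilizer W (lineSet F)) = Nat.card W :=
    card_orbit_mul_stab _
  have h2 : Nat.card (orbit (centT W) (lineSet F)) * Nat.card (stabilizer (centT W) (lineSet F)) =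
      Nat.card (centT W) := card_orbit_mul_stab _
  rw [h.card_orbit, h.card_stab] at h1
  rw [h.card_orbit_centT] at h2
  set q := Nat.card F
  set k := Nat.card (Graphs W)
  set s := Nat.card (stabilizer (centT W) (lineSet F))
  obtain ⟨m, hm⟩ : Nat.card (centT W) ∣ Nat.card W := Subgroup.card_dvd_of_le inf_le_left
  have hs : 0 < s := Nat.card_pos
  have e : (q * k + 1) * q = (k + 1) * m := by
    refine mul_right_cancel₀ hs.ne' ?_
    rw [mul_assoc, h1, hm, ← h2]; ring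
  have hd : k + 1 ∣ (q * k + 1) * q := ⟨m, e⟩
  have hcop : Nat.Coprime (k + 1) q := by
    rw [show q = p ^ n from h.card]
    refine Nat.Coprime.pow_right _ (Nat.Coprime.symm ?_)
    refine (Nat.Prime.coprime_iff_not_dvd h.prime).2 fun hp => h.not_dvd_card_centT ?_
    exact h2 ▸ hp.trans (dvd_mul_right _ _)
  have hq1 : 1 ≤ q := Nat.card_pos
  have hd' := hcop.dvd_of_dvd_mul_right hd
  have hsum : q * (k + 1) = (q * k + 1) + (q - 1) := by
    rw [Nat.mul_succ]; omega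
  have hd2 : k + 1 ∣ (q * k + 1) + (q - 1) := hsum ▸ dvd_mul_left _ _
  exact (Nat.dvd_add_right hd').1 hd2

end Cfsg.Agent.Transfer.SpFourLocal
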