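import Cfsg.Agent.Lib.Transfer.SpFourLocal.One

/-!
With the zero graph alone, the group is generated by the translations, the diagonal maps and the exchange.
-/

set_option autoImplicit false
set_option linter.unusedSectionVars false

namespace Cfsg.Agent.Transfer.SpFourLocal

open Equiv Subgroup MulAction
open scoped Pointwise

variable {F : Type*} [Field F] [Finite F] {p n : ℕ} {W : Subgroup (Perm (V F))} (h : Hyp p n W)
  (hG : Graphs W = {fun _ => (0 : F)})

omit [Finite F] in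
/-- The second line. -/
def polarSet (F : Type*) [Field F] : Set (V F) := graphSet fun _ : F => (0 : F)

include h

theorem Hyp.map_neg {w : Perm (V F)} (hw : w ∈ W) (v : V F) : w (-v) = -w v :=
  eq_neg_of_add_eq_zero_left (by rw [← h.add w hw, neg_add_cancel, h.map_zero hw])

theorem Hyp.transitive_false {g : Perm (V F)} (hg : g ∈ W) {x : F} (hx : x ≠ 0) (hns : ¬ IsSquare x)
    (hD : ∀ u : Fˣ, Dp u 1 ∈ W) (hgx : g (1, 0, 0) = (x, 0, 0)) : False := by
  have key : ∀ y : F, y ≠ 0 → ∃ w ∈ W, w (1, 0, 0) = (y, 0, 0) := by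
    intro y hy
    haveI := Fintype.ofFinite F
    by_cases hs : IsSquare y
    · obtain ⟨u, rfl⟩ := hs
      refine ⟨_, hD (Units.mk0 u (left_ne_zero_of_mul hy)), ?_⟩
      simp [sq]
    · have hxy : IsSquare (x * y) := by
        classical
        have h2 : ringChar F ≠ 2 := fun e => h.two_ne (by
          haveI := ringChar.of_eq e; exact CharTwo.two_eq_zero)
        rw [← quadraticChar_one_iff_isSquare (mul_ne_zero hx hy), map_mul,
          quadraticChar_neg_one_iff_not_isSquare.2 hns, quadraticChar_neg_one_iff_not_isSquare.2 hs]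
        norm_num
      obtain ⟨u, hu⟩ := hxy
      have hu0 : u ≠ 0 := fun e => mul_ne_zero hx hy (by rw [hu, e, mul_zero])
      refine ⟨Dp (Units.mk0 u hu0 * (Units.mk0 x hx)⁻¹) 1 * g, mul_mem (hD _) hg, ?_⟩
      rw [Perm.mul_apply, hgx, Dp_apply]
      simp only [Units.val_mul, Units.val_mk0, Units.val_inv_eq_inv_val, mul_zero]
      refine Prod.ext ?_ rfl
      field_simp
      linear_combination -hu
  obtain ⟨z₁, z₂, h1, h2, hne⟩ := h.classes
  obtain ⟨w₁, hw₁, e₁⟩ := key z₁ h1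
  obtain ⟨w₂, hw₂, e₂⟩ := key z₂ h2
  exact hne (w₂ * w₁⁻¹) (mul_mem hw₂ (inv_mem hw₁)) (by rw [Perm.mul_apply, ← e₁]; simp [e₂])

omit h in
theorem line_ne_polar : polarSet F ≠ lineSet F := graphSet_ne_line _

include hG

/-- An element exchanging the two lines, commuting with `tt`. -/
theorem Hyp.exists_exchange : ∃ w ∈ centT W, w • lineSet F = polarSet F ∧ w • polarSet F = lineSet F := by
  obtain ⟨g, hg, hgc, hgr⟩ := h.graph_commute (φ := fun _ => (0 : F)) (by rw [hG]; rfl)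
  have hgC : g ∈ centT W := mem_centT.2 ⟨hg, hgc⟩
  have e := h.smul_line_of_graph hgr
  refine ⟨g, hgC, e, ?_⟩
  rcases h.centT_cases (mul_mem hgC hgC) with e2 | ⟨φ, hφ, e2⟩
  · rwa [← smul_smul, e] at e2
  · exfalso
    rw [hG, Set.mem_singleton_iff] at hφ
    subst hφ
    rw [← smul_smul, e] at e2
    exact line_ne_polar (smul_left_cancel g (e2.trans e.symm))

theorem Hyp.polar_fixed {w : Perm (V F)} (hw : w ∈ centT W) (hl : w • lineSet F = lineSet F) :
    w • polarSet F = polarSet F := by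
  obtain ⟨g, hg, hg1, hg2⟩ := h.exists_exchange hG
  rcases h.centT_cases (mul_mem hw hg) with e | ⟨φ, hφ, e⟩
  · exfalso
    rw [← smul_smul, hg1] at e
    exact line_ne_polar (smul_left_cancel w (e.trans hl.symm))
  · rw [hG, Set.mem_singleton_iff] at hφ
    subst hφ
    rwa [← smul_smul, hg1] at e

theorem Hyp.mid_fixed {w : Perm (V F)} (hw : w ∈ centT W) (a : F) :
    w (0, a, 0) = (0, (w (0, a, 0)).2.1, 0) := by
  obtain ⟨hwW, hc⟩ := mem_centT.1 hw
  obtain ⟨x, y, z, hv⟩ : ∃ x y z, w (0, a, 0) = (x, y, z) := ⟨_, _, _, rfl⟩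
  have e : (w * tt : Perm (V F)) (0, a, 0) = (tt * w : Perm (V F)) (0, a, 0) := by rw [hc]
  rw [Perm.mul_apply, Perm.mul_apply, tt_apply,
    show ((0 : F), -a, (0 : F)) = -((0 : F), a, (0 : F)) by simp, h.map_neg hwW, hv, tt_apply] at e
  simp only [Prod.neg_mk, Prod.mk.injEq, true_and] at e
  have hx : x = 0 := mul_left_cancel₀ h.two_ne (by linear_combination -e.1)
  have hz : z = 0 := mul_left_cancel₀ h.two_ne (by linear_combination -e.2)
  rw [hv, hx, hz]

/-- An element of the centralizer of `tt` fixing the line, in coordinates. -/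
theorem Hyp.diag_form {w : Perm (V F)} (hw : w ∈ centT W) (hl : w • lineSet F = lineSet F) (z a b : F) :
    w (z, a, b) = ((w (z, 0, 0)).1, (w (0, a, 0)).2.1, (w (0, 0, b)).2.2) := by
  have hwW := (mem_centT.1 hw).1
  have h1 : w (z, (0 : F), (0 : F)) ∈ lineSet F := by
    rw [← hl]; exact ⟨(z, 0, 0), rfl, rfl⟩
  have h3 : w ((0 : F), (0 : F), b) ∈ polarSet F := by
    rw [← h.polar_fixed hG hw hl]; exact ⟨(0, 0, b), ⟨rfl, rfl⟩, rfl⟩
  have : ((z, a, b) : V F) = (z, 0, 0) + (0, a, 0) + (0, 0, b) := by simp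
  rw [this, h.add w hwW, h.add w hwW, h.mid_fixed hG hw a]
  obtain ⟨x, y, t, hx⟩ : ∃ x y t, w (z, 0, 0) = (x, y, t) := ⟨_, _, _, rfl⟩
  obtain ⟨x', y', t', hx'⟩ : ∃ x y t, w (0, 0, b) = (x, y, t) := ⟨_, _, _, rfl⟩
  rw [hx] at h1 ⊢
  rw [hx'] at h3 ⊢
  obtain ⟨rfl, rfl⟩ : y = 0 ∧ t = 0 := Prod.ext_iff.1 h1
  obtain ⟨rfl, rfl⟩ : y' = 0 ∧ x' = 0 := h3
  simp

omit hG in
theorem Hyp.pow_mid (c : F) (s : Fˣ) (i : ℕ) :
    (((Xp c * Dp 1 s) ^ i : Perm (V F)) (0, 1, 0)).2 = ((s : F) ^ i, 0) := by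
  induction i with
  | zero => simp
  | succ i ih =>
    rw [pow_succ', Perm.mul_apply]
    obtain ⟨x, y, z, hv⟩ : ∃ x y z, ((Xp c * Dp 1 s) ^ i : Perm (V F)) (0, 1, 0) = (x, y, z) :=
      ⟨_, _, _, rfl⟩
    rw [hv] at ih ⊢
    simp only [Prod.mk.injEq] at ih
    obtain ⟨rfl, rfl⟩ := ih
    simp only [Perm.mul_apply, Dp_apply, Xp_apply, Units.val_one]
    refine Prod.ext ?_ ?_ <;> simp [pow_succ']

/-- An element of the centralizer of `tt` fixing the line and the second line pointwise. -/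
theorem Hyp.torus_form {w : Perm (V F)} (hw : w ∈ centT W) (hl : w • lineSet F = lineSet F)
    (hfix : ∀ b : F, w (0, 0, b) = (0, 0, b)) : ∃ u : Fˣ, w = Dp u 1 := by
  have hwW := (mem_centT.1 hw).1
  have hwi : ∀ b : F, w⁻¹ ((0 : F), (0 : F), b) = (0, 0, b) := fun b => by
    rw [Perm.inv_eq_iff_eq, hfix]
  have key : ∀ c : F, ∃ c', ∀ v, w (Xp c v) = Xp c' (w v) := by
    intro c
    have hm : w * Xp c * w⁻¹ ∈ W := mul_mem (mul_mem hwW (h.xmem c)) (inv_mem hwW)
    have h1 : (w * Xp c * w⁻¹ : Perm (V F)) ((1 : F), 0, 0) = (1, 0, 0) := by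
      have hl' : w⁻¹ • lineSet F = lineSet F := by rw [inv_smul_eq_iff, hl]
      obtain ⟨x, y, z, hv⟩ : ∃ x y z, w⁻¹ ((1 : F), (0 : F), (0 : F)) = (x, y, z) := ⟨_, _, _, rfl⟩
      have : (x, y, z) ∈ lineSet F := by rw [← hv, ← hl']; exact ⟨(1, 0, 0), rfl, rfl⟩
      obtain ⟨rfl, rfl⟩ : y = 0 ∧ z = 0 := Prod.ext_iff.1 this
      rw [Perm.mul_apply, Perm.mul_apply, hv, Xp_apply]
      simp only [mul_zero, add_zero]
      rw [← hv]; simp
    obtain ⟨c', s, hcs⟩ := h.stab _ hm 1 one_ne_zero h1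
    refine ⟨c', fun v => ?_⟩
    haveI := h.charP
    haveI : Fact p.Prime := ⟨h.prime⟩
    have hp : (Xp c' * Dp 1 s : Perm (V F)) ^ p = 1 := by
      rw [← hcs, conj_pow]
      have : (Xp c : Perm (V F)) ^ p = 1 := by
        have he : ∀ i : ℕ, (Xp c : Perm (V F)) ^ i = Xp ((i : F) * c) := by
          intro i
          induction i with
          | zero => simp [Xp_zero]
          | succ i ih => rw [pow_succ, ih, ← Xp_add]; push_cast; ring_nf
        rw [he, CharP.cast_eq_zero, zero_mul, Xp_zero]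
      rw [this, mul_one, mul_inv_cancel]
    have hs := h.pow_mid c' s p
    rw [hp, Perm.one_apply] at hs
    have hs1 : s = 1 := Units.ext (sub_eq_zero.1 (eq_zero_of_pow_eq_zero (n := p) (by
      rw [sub_pow_char, Units.val_one, one_pow, show (s : F) ^ p = 1 from (congrArg Prod.fst hs).symm,
        sub_self])))
    subst hs1
    rw [Dp_one, mul_one] at hcs
    rw [← hcs]
    simp
  choose γ hγ using key
  set α : F → F := fun a => (w (0, a, 0)).2.1 with hα
  set δ : F → F := fun z => (w (z, 0, 0)).1 with hδ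
  have heq : ∀ c b, δ (c ^ 2 * b) = γ c ^ 2 * b ∧ α (c * b) = γ c * b := by
    intro c b
    have := hγ c (0, 0, b)
    rw [hfix, Xp_apply, h.diag_form hG hw hl, hfix, Xp_apply] at this
    simp only [mul_zero, add_zero, zero_add, Prod.mk.injEq] at this
    exact ⟨this.1, this.2.1⟩
  have hu : γ 1 ≠ 0 := by
    intro e
    have h1 := (heq 1 1).2
    rw [e, zero_mul] at h1
    simp only [mul_one] at h1
    have : w ((0 : F), (1 : F), (0 : F)) = w 0 := by
      rw [h.map_zero hwW, h.mid_fixed hG hw 1]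
      show ((0 : F), α 1, (0 : F)) = 0
      rw [h1]; rfl
    exact one_ne_zero (congrArg (fun v : V F => v.2.1) (w.injective this))
  refine ⟨Units.mk0 _ hu, perm_ext fun z a b => ?_⟩
  rw [h.diag_form hG hw hl, Dp_apply, hfix]
  have e1 := (heq 1 z).1
  have e2 := (heq 1 a).2
  simp only [one_pow, one_mul] at e1 e2
  simp [← hα, ← hδ, show (w (z, 0, 0)).1 = δ z from rfl, show (w (0, a, 0)).2.1 = α a from rfl, e1, e2]

/-- Conjugating the torus of the line by an exchange gives the torus of the second line. -/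
theorem Hyp.exchange_torus {g : Perm (V F)} (hg : g ∈ centT W) (hg1 : g • lineSet F = polarSet F)
    (hg2 : g • polarSet F = lineSet F) (s : Fˣ) : ∃ u : Fˣ, g * Dp 1 s = Dp u 1 * g := by
  have hgW := (mem_centT.1 hg).1
  have hDc : Dp 1 s ∈ centT W := mem_centT.2 ⟨h.tmem s, by rw [tt, Dp_mul, Dp_mul, mul_comm s]⟩
  have hgi : g⁻¹ • lineSet F = polarSet F := by rw [inv_smul_eq_iff, hg2]
  have hDl : Dp 1 s • lineSet F = lineSet F := h.smul_line_eq fun z => by simp
  have hm := mul_mem (mul_mem hg hDc) (inv_mem hg)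
  obtain ⟨u, hu⟩ := h.torus_form hG hm
    (by rw [← smul_smul, hgi, ← smul_smul, h.polar_fixed hG hDc hDl, hg2]) (fun b => by
      obtain ⟨⟨z, a, c⟩, hv, hgv⟩ : ((0 : F), (0 : F), b) ∈ g • lineSet F := by
        rw [hg1]; exact ⟨rfl, rfl⟩
      obtain ⟨rfl, rfl⟩ : a = 0 ∧ c = 0 := Prod.ext_iff.1 hv
      rw [← hgv]
      simp only [Perm.mul_apply, Perm.smul_def]
      simp)
  exact ⟨u, by rw [← hu]; group⟩

/-- All diagonal maps occur. -/
theorem Hyp.diag_mem (u v : Fˣ) : Dp u v ∈ W := by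
  obtain ⟨g, hg, hg1, hg2⟩ := h.exists_exchange hG
  choose f hf using h.exchange_torus hG hg hg1 hg2
  have hinj : Function.Injective f := fun s t e => by
    have h1 : g * Dp 1 s = g * Dp 1 t := by rw [hf, hf, e]
    have := congrArg (fun k : Perm (V F) => k ((0 : F), (1 : F), (0 : F))) (mul_left_cancel h1)
    simpa [Units.ext_iff] using this
  obtain ⟨s, rfl⟩ := (Finite.injective_iff_surjective.1 hinj) u
  have hm : Dp (f s) 1 ∈ W := by
    have hgW := (mem_centT.1 hg).1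
    rw [show Dp (f s) 1 = g * Dp 1 s * g⁻¹ by rw [hf]; group]
    exact mul_mem (mul_mem hgW (h.tmem s)) (inv_mem hgW)
  rw [show Dp (f s) v = Dp (f s) 1 * Dp 1 v by rw [Dp_mul, mul_one, one_mul]]
  exact mul_mem hm (h.tmem v)

/-- The stabiliser of the line in the centralizer of `tt` is diagonal. -/
theorem Hyp.stab_diag {w : Perm (V F)} (hw : w ∈ centT W) (hl : w • lineSet F = lineSet F) :
    ∃ u v : Fˣ, w = Dp u v := by
  have hwW := (mem_centT.1 hw).1
  obtain ⟨x, y, z, hv⟩ : ∃ x y z, w ((1 : F), 0, 0) = (x, y, z) := ⟨_, _, _, rfl⟩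
  have h1 : w ((1 : F), (0 : F), (0 : F)) ∈ lineSet F := by rw [← hl]; exact ⟨(1, 0, 0), rfl, rfl⟩
  rw [hv] at h1
  obtain ⟨rfl, rfl⟩ : y = 0 ∧ z = 0 := Prod.ext_iff.1 h1
  have hx : x ≠ 0 := by
    rintro rfl
    exact one_ne_zero (congrArg Prod.fst (w.injective (hv.trans (h.map_zero hwW).symm)))
  by_cases hs : IsSquare x
  swap
  · exact (h.transitive_false hwW hx hs (fun u => h.diag_mem hG u 1) hv).elim
  obtain ⟨u, rfl⟩ := hs
  have hu : u ≠ 0 := left_ne_zero_of_mul hx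
  set U := Units.mk0 u hu
  have hmW : Dp U⁻¹ 1 * w ∈ W := mul_mem (h.diag_mem hG _ _) hwW
  obtain ⟨c, s, hcs⟩ := h.stab _ hmW 1 one_ne_zero (by
    rw [Perm.mul_apply, hv, Dp_apply]; simp [U, sq]; field_simp)
  have hmC : Dp U⁻¹ 1 * w ∈ centT W := mul_mem
    (mem_centT.2 ⟨h.diag_mem hG _ _, by rw [tt, Dp_mul, Dp_mul, mul_comm (1 : Fˣ), mul_one, one_mul]⟩) hw
  have hc := (mem_centT.1 hmC).2
  rw [hcs, mul_assoc, show Dp 1 s * tt = tt * Dp 1 s by rw [tt, Dp_mul, Dp_mul, mul_comm s], ← mul_assoc,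
    ← mul_assoc, mul_left_inj, tt_mul_Xp, mul_left_inj] at hc
  have hc0 : c = 0 := mul_left_cancel₀ h.two_ne (by linear_combination Xp_injective hc)
  subst hc0
  rw [Xp_zero, one_mul] at hcs
  refine ⟨U, s, ?_⟩
  rw [show w = Dp U 1 * (Dp U⁻¹ 1 * w) by rw [← mul_assoc, Dp_mul, mul_inv_cancel, one_mul, Dp_one, one_mul],
    hcs, Dp_mul, mul_one, one_mul]

omit hG in
/-- A multiplicative additive involution of a field with `q ≡ 3` modulo four is the identity. -/
theorem Hyp.eq_id_of_involutive (σ : F → F) (hadd : ∀ x y, σ (x + y) = σ x + σ y)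
    (hmul : ∀ x y, σ (x * y) = σ x * σ y) (hinv : ∀ x, σ (σ x) = x) (x : F) : σ x = x := by
  by_contra hx
  have h2 := h.two_ne
  have hneg : ∀ a, σ (-a) = -σ a := fun a => by
    have h0 : σ 0 = 0 := by simpa using hadd 0 0
    exact eq_neg_of_add_eq_zero_left (by rw [← hadd, neg_add_cancel, h0])
  have hsub : ∀ a b, σ (a - b) = σ a - σ b := fun a b => by
    rw [sub_eq_add_neg, hadd, hneg, sub_eq_add_neg]
  set d := x - σ x
  have hd : d ≠ 0 := sub_ne_zero.2 (Ne.symm hx)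
  have hσd : σ d = -d := by rw [hsub, hinv]; simp [d]
  have h0 : σ 0 = 0 := by simpa using hadd 0 0
  have h1 : σ 1 = 1 := by
    have h11 := hmul 1 1
    rw [mul_one] at h11
    refine mul_left_cancel₀ (a := σ 1) (fun e => one_ne_zero (α := F) ?_) (by rw [← h11, mul_one])
    rw [← hinv 1, e, h0]
  have hσ2 : σ (2⁻¹ : F) = 2⁻¹ := by
    have h22 : σ 2 = 2 := by rw [show (2 : F) = 1 + 1 by norm_num, hadd, h1]
    have := hmul 2 2⁻¹
    rw [mul_inv_cancel₀ h2, h1, h22] at this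
    exact mul_left_cancel₀ h2 (by rw [← this, mul_inv_cancel₀ h2])
  have hσdi : σ d⁻¹ = -d⁻¹ := by
    have := hmul d d⁻¹
    rw [mul_inv_cancel₀ hd, h1, hσd] at this
    refine mul_left_cancel₀ (neg_ne_zero.2 hd) ?_
    rw [← this, neg_mul_neg, mul_inv_cancel₀ hd]
  let K := {a : F // σ a = a}
  let f : K × K → F := fun ab => ab.1.1 + d * ab.2.1
  have hf : Function.Bijective f := by
    constructor
    · rintro ⟨⟨a, ha⟩, ⟨b, hb⟩⟩ ⟨⟨a', ha'⟩, ⟨b', hb'⟩⟩ e
      simp only [f] at e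
      have e2 := congrArg σ e
      rw [hadd, hadd, hmul, hmul, hσd, ha, ha', hb, hb'] at e2
      have e3 : a = a' := mul_left_cancel₀ h2 (by linear_combination e + e2)
      subst e3
      have e4 : b = b' := mul_left_cancel₀ hd (by linear_combination e)
      subst e4
      rfl
    · intro a
      refine ⟨(⟨2⁻¹ * (a + σ a), by rw [hmul, hσ2, hadd, hinv, add_comm (σ a)]⟩,
        ⟨2⁻¹ * ((a - σ a) * d⁻¹), by rw [hmul, hσ2, hmul, hsub, hinv, hσdi]; ring⟩), ?_⟩
      simp only [f]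
      field_simp
      ring
  have hc := Nat.card_eq_of_bijective f hf
  rw [Nat.card_prod] at hc
  have := h.four'
  rw [← hc, Nat.mul_mod] at this
  have : Nat.card K % 4 < 4 := Nat.mod_lt _ (by norm_num)
  interval_cases hk : Nat.card K % 4 <;> simp_all

/-- The exchange of the two lines occurs. -/
theorem Hyp.Sw_mem : (Sw : Perm (V F)) ∈ W := by
  obtain ⟨g, hg, hg1, hg2⟩ := h.exists_exchange hG
  have hgW := (mem_centT.1 hg).1
  set ξ : F → F := fun b => (g (0, 0, b)).1 with hξ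
  set η : F → F := fun a => (g (0, a, 0)).2.1 with hη
  set ζ : F → F := fun z => (g (z, 0, 0)).2.2 with hζ
  have h1 : ∀ z, g (z, 0, 0) = (0, 0, ζ z) := by
    intro z
    have : g (z, (0 : F), (0 : F)) ∈ polarSet F := by rw [← hg1]; exact ⟨(z, 0, 0), rfl, rfl⟩
    exact Prod.ext this.2 (Prod.ext this.1 rfl)
  have h2 : ∀ a, g (0, a, 0) = (0, η a, 0) := fun a => h.mid_fixed hG hg a
  have h3 : ∀ b, g (0, 0, b) = (ξ b, 0, 0) := by
    intro b
    have : g ((0 : F), (0 : F), b) ∈ lineSet F := by rw [← hg2]; exact ⟨(0, 0, b), ⟨rfl, rfl⟩, rfl⟩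
    exact Prod.ext rfl this
  have hform : ∀ z a b, g (z, a, b) = (ξ b, η a, ζ z) := by
    intro z a b
    have : ((z, a, b) : V F) = (z, 0, 0) + (0, a, 0) + (0, 0, b) := by simp
    rw [this, h.add g hgW, h.add g hgW, h1, h2, h3]
    simp
  have hgg : ∃ u v : Fˣ, ∀ z a b, g (g (z, a, b)) = Dp u v (z, a, b) := by
    obtain ⟨u, v, e⟩ := h.stab_diag hG (mul_mem hg hg) (by rw [← smul_smul, hg1, hg2])
    exact ⟨u, v, fun z a b => by rw [← e]; rfl⟩
  obtain ⟨u₀, v₀, hgg⟩ := hgg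
  simp only [hform, Dp_apply, Prod.mk.injEq] at hgg
  have hadd : ∀ x y, η (x + y) = η x + η y := fun x y => by
    have := h.add g hgW (0, x, 0) (0, y, 0)
    simp only [Prod.mk_add_mk, add_zero, h2, Prod.mk.injEq] at this
    exact this.2.1
  have haddξ : ∀ x y, ξ (x + y) = ξ x + ξ y := fun x y => by
    have := h.add g hgW (0, 0, x) (0, 0, y)
    simp only [Prod.mk_add_mk, add_zero, h3, Prod.mk.injEq] at this
    exact this.1
  choose f hf using h.exchange_torus hG hg hg1 hg2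
  have hfη : ∀ (s : Fˣ) a, η ((s : F) * a) = (f s : F) * η a ∧ ∀ b, ξ ((s : F) ^ 2 * b) = (f s : F) ^ 2 * ξ b := by
    intro s a
    refine ⟨?_, fun b => ?_⟩
    · have := congrArg (fun k : Perm (V F) => k ((0 : F), a, (0 : F))) (hf s)
      simp only [Perm.mul_apply, Dp_apply, hform, Prod.mk.injEq, Units.val_one, one_mul, mul_one] at this
      exact this.2.1
    · have := congrArg (fun k : Perm (V F) => k ((0 : F), (0 : F), b)) (hf s)
      simp only [Perm.mul_apply, Dp_apply, hform, Prod.mk.injEq, Units.val_one, one_mul, mul_one] at this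
      exact this.1
  have hη1 : η 1 ≠ 0 := by
    intro e
    have := (hgg 0 1 0).2.1
    have h0 : η 0 = 0 := by simpa using hadd 0 0
    rw [e, h0] at this
    simp at this
  have hηmul : ∀ x a, η (x * a) * η 1 = η x * η a := by
    intro x a
    have h0 : η 0 = 0 := by simpa using hadd 0 0
    rcases eq_or_ne x 0 with rfl | hx
    · rw [zero_mul, h0]; ring
    have e1 := (hfη (Units.mk0 x hx) a).1
    have e2 := (hfη (Units.mk0 x hx) 1).1
    simp only [Units.val_mk0, mul_one] at e1 e2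
    rw [e1, e2]; ring
  have hlin : ∀ a, η a = η 1 * a := by
    intro a
    have := h.eq_id_of_involutive (fun y => η y / η 1) (fun x y => by rw [hadd, add_div])
      (fun x y => by field_simp; linear_combination hηmul x y) (fun y => by
        have e1 := hηmul (η y) (η 1)⁻¹
        have e2 := hηmul (η 1) (η 1)⁻¹
        rw [(hgg 0 y 0).2.1] at e1
        rw [mul_inv_cancel₀ hη1, (hgg 0 1 0).2.1] at e2
        rw [← div_eq_mul_inv] at e1
        rw [div_eq_iff hη1]
        refine mul_left_cancel₀ hη1 ?_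
        linear_combination e1 - y * e2) a
    rwa [div_eq_iff hη1, mul_comm] at this
  have hfs : ∀ s : Fˣ, (f s : F) = s := by
    intro s
    have := (hfη s 1).1
    rw [hlin, mul_one] at this
    exact mul_left_cancel₀ hη1 (by linear_combination -this)
  have hξlin : ∀ b, ξ b = ξ 1 * b := by
    have hsq : ∀ c b, ξ (c ^ 2 * b) = c ^ 2 * ξ b := by
      intro c b
      rcases eq_or_ne c 0 with rfl | hc
      · have h0 : ξ 0 = 0 := by simpa using haddξ 0 0
        simp [h0]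
      have := (hfη (Units.mk0 c hc) 0).2 b
      rwa [hfs, Units.val_mk0] at this
    intro b
    have h2ne := h.two_ne
    have e := haddξ (((b - 1) / 2) ^ 2 * 1) b
    rw [show ((b - 1) / 2) ^ 2 * 1 + b = ((b + 1) / 2) ^ 2 * 1 by field_simp; ring, hsq, hsq] at e
    have : ((b + 1) / 2) ^ 2 = ((b - 1) / 2) ^ 2 + b := by field_simp; ring
    rw [this] at e
    linear_combination -e
  have hξ1 : ξ 1 ≠ 0 := by
    intro e
    have hz : g ((0 : F), (0 : F), (1 : F)) = g 0 := by rw [h3, e, h.map_zero hgW]; rfl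
    exact one_ne_zero (congrArg (fun v : V F => v.2.2) (g.injective hz))
  have hζlin : ∀ z, ζ z = ζ 1 * z := by
    intro z
    have e1 := (hgg z 0 0).1
    have e2 := (hgg 1 0 0).1
    rw [hξlin] at e1 e2
    exact mul_left_cancel₀ hξ1 (by linear_combination e1 - z * e2)
  have hζ1 : ζ 1 ≠ 0 := by
    intro e
    have hz : g ((1 : F), (0 : F), (0 : F)) = g 0 := by rw [h1, e, h.map_zero hgW]; rfl
    exact one_ne_zero (congrArg (fun v : V F => v.1) (g.injective hz))
  -- the conic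
  have hconic : ξ 1 * ζ 1 = η 1 * η 1 := by
    have hm : g * Xp 1 * g ∈ W := mul_mem (mul_mem hgW (h.xmem 1)) hgW
    have hval : (g * Xp 1 * g : Perm (V F)) ((1 : F), 0, 0) =
        (ξ 1 * ζ 1, η 1 * ζ 1, ζ 1 * ζ 1) := by
      rw [Perm.mul_apply, Perm.mul_apply, h1, Xp_apply, hform]
      simp only [mul_zero, add_zero, zero_add, one_pow, one_mul]
      rw [hξlin (ζ 1), hlin (ζ 1), hζlin (ζ 1)]
    obtain ⟨r, φ, hφ⟩ := h.graph_of_moves hm (z := 1) (fun e => by
      rw [hval] at e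
      exact mul_ne_zero hζ1 hζ1 (congrArg Prod.snd e))
    have hφ0 : φ ∈ Graphs W := ⟨_, mul_mem (h.xmem _) hm, hφ⟩
    rw [hG, Set.mem_singleton_iff] at hφ0
    subst hφ0
    have hsp := IsGraph.spec h hφ 1
    rw [Perm.mul_apply, hval, Xp_apply] at hsp
    simp only [Prod.mk.injEq, and_true] at hsp
    obtain ⟨e1, e2⟩ := hsp
    refine mul_left_cancel₀ hζ1 (mul_left_cancel₀ hζ1 ?_)
    linear_combination (ζ 1 * ζ 1) * e1 + (r * ζ 1 * ζ 1 - η 1 * ζ 1) * e2
  set ρ := Units.mk0 (η 1 / ζ 1) (div_ne_zero hη1 hζ1)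
  set L := Units.mk0 (ζ 1) hζ1
  have hform' : Dp ρ⁻¹ 1 * g = Sc L * Sw := perm_ext fun z a b => by
    rw [Perm.mul_apply, Perm.mul_apply, hform, Sw_apply, Dp_apply, Sc_apply, hξlin, hlin, hζlin]
    simp only [ρ, L, Units.val_inv_eq_inv_val, Units.val_mk0, Units.val_one]
    refine Prod.ext ?_ (Prod.ext ?_ ?_) <;> simp only
    · field_simp
      linear_combination b * hconic
    · field_simp
    · ring
  have hm : Sc L * Sw ∈ W := hform' ▸ mul_mem (h.diag_mem hG _ _) hgW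
  by_cases hs : IsSquare (L : F)
  · obtain ⟨c, hc⟩ := hs
    have hc0 : c ≠ 0 := fun e => L.ne_zero (by rw [hc, e, mul_zero])
    have : Sc L = Dp (Units.mk0 c hc0) (Units.mk0 c hc0) := by
      rw [Dp_self]; congr 1; exact Units.ext (by simp [hc, sq])
    rw [this] at hm
    simpa using mul_mem (inv_mem (h.diag_mem hG (Units.mk0 c hc0) (Units.mk0 c hc0))) hm
  · exfalso
    haveI := Fintype.ofFinite F
    classical
    have hm1 : ¬ IsSquare (-1 : F) := by
      rw [FiniteField.isSquare_neg_one_iff, Fintype.card_eq_nat_card, not_not]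
      exact h.four'
    have h2 : ringChar F ≠ 2 := fun e => h.two_ne (by
      haveI := ringChar.of_eq e; exact CharTwo.two_eq_zero)
    have hsq : IsSquare (-1 * (L : F)) := by
      rw [← quadraticChar_one_iff_isSquare (mul_ne_zero (neg_ne_zero.2 one_ne_zero) L.ne_zero), map_mul,
        quadraticChar_neg_one_iff_not_isSquare.2 hm1, quadraticChar_neg_one_iff_not_isSquare.2 hs]
      norm_num
    obtain ⟨c, hc⟩ := hsq
    have hc0 : c ≠ 0 := fun e => L.ne_zero (by linear_combination -hc - c * e)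
    set C := Units.mk0 c hc0
    have hM : (Dp C⁻¹ C⁻¹ * (Sc L * Sw) * tt * Xp 1) ^ 3 ∈ W :=
      pow_mem (mul_mem (mul_mem (mul_mem (h.diag_mem hG _ _) hm) h.tt_mem) (h.xmem _)) 3
    refine h.transitive_false hM (neg_ne_zero.2 one_ne_zero) hm1 (fun u => h.diag_mem hG u 1) ?_
    have hw : ∀ z a b, (Dp C⁻¹ C⁻¹ * (Sc L * Sw) * tt * Xp 1 : Perm (V F)) (z, a, b) =
        (-b, a + b, -(z + 2 * a + b)) := by
      intro z a b
      simp only [Perm.mul_apply, Xp_apply, tt_apply, Sw_apply, Sc_apply, Dp_apply, C,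
        Units.val_inv_eq_inv_val, Units.val_mk0]
      refine Prod.ext ?_ (Prod.ext ?_ ?_) <;> simp only <;> field_simp
      · linear_combination (-b) * hc
      · linear_combination (a + b) * hc
      · linear_combination (-(z + 2 * a + b)) * hc
    rw [pow_succ, pow_two, Perm.mul_apply, Perm.mul_apply, hw, hw, hw]
    refine Prod.ext ?_ (Prod.ext ?_ ?_) <;> simp only <;> ring

/-- The normal forms. -/
theorem Hyp.normal_form {w : Perm (V F)} (hw : w ∈ W) :
    ∃ (r : F) (u v : Fˣ), w = Xp r * Dp u v ∨ ∃ r', w = Xp r * Sw * (Xp r' * Dp u v) := by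
  have hstab : ∀ w ∈ W, w • lineSet F = lineSet F → ∃ (r : F) (u v : Fˣ), w = Xp r * Dp u v := by
    intro w hw hl
    obtain ⟨r, hr, hrl⟩ := h.stab_line_decomp hw hl
    obtain ⟨u, v, e⟩ := h.stab_diag hG hr hrl
    exact ⟨r, u, v, by rw [← e, ← mul_assoc, ← Xp_add, add_neg_cancel, Xp_zero, one_mul]⟩
  rcases h.line_or_graph hw with e | ⟨r, φ, hφ, e⟩
  · obtain ⟨r, u, v, e'⟩ := hstab w hw e
    exact ⟨r, u, v, Or.inl e'⟩
  rw [hG, Set.mem_singleton_iff] at hφ
  subst hφ
  have hSg : IsGraph (Sw : Perm (V F)) (fun _ => 0) := fun b => ⟨b, by simp⟩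
  have hs := h.smul_line_of_graph hSg
  obtain ⟨r', u, v, e'⟩ := hstab ((Xp r * Sw)⁻¹ * w) (mul_mem (inv_mem (mul_mem (h.xmem r) (h.Sw_mem hG))) hw)
    (by rw [← smul_smul, e, inv_smul_eq_iff, ← smul_smul, hs])
  exact ⟨r, u, v, Or.inr ⟨r', by rw [← e', mul_inv_cancel_left]⟩⟩

end Cfsg.Agent.Transfer.SpFourLocal
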