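import Cfsg.Agent.Lib.Transfer.SpFourLocal.Pair

/-!
The group is the image of `GL₂(F)` on symmetric matrices, isomorphic to `PGL₂(q) × C_{(q-1)/2}`.
-/

set_option autoImplicit false
set_option linter.unusedSectionVars false

namespace Cfsg.Agent.Transfer.SpFourLocal

open Equiv Subgroup Matrix
open scoped MatrixGroups

variable {F : Type*} [Field F]

/-- `g S gᵀ` on triples. -/
def symMap (g : Matrix (Fin 2) (Fin 2) F) (v : V F) : V F :=
  (g 0 0 ^ 2 * v.1 + 2 * g 0 0 * g 0 1 * v.2.1 + g 0 1 ^ 2 * v.2.2,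
    g 0 0 * g 1 0 * v.1 + (g 0 0 * g 1 1 + g 0 1 * g 1 0) * v.2.1 + g 0 1 * g 1 1 * v.2.2,
    g 1 0 ^ 2 * v.1 + 2 * g 1 0 * g 1 1 * v.2.1 + g 1 1 ^ 2 * v.2.2)

theorem symMap_mul (g k : Matrix (Fin 2) (Fin 2) F) (v : V F) :
    symMap (g * k) v = symMap g (symMap k v) := by
  simp only [symMap, Matrix.mul_apply, Fin.sum_univ_two]
  refine Prod.ext (by ring) (Prod.ext (by ring) (by ring))

theorem symMap_one (v : V F) : symMap (1 : Matrix (Fin 2) (Fin 2) F) v = v := by
  simp [symMap]

/-- The action of `GL₂(F)` on symmetric matrices. -/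
def symHom : GL (Fin 2) F →* Perm (V F) where
  toFun g := ⟨symMap g.1, symMap g⁻¹.1, fun v => by rw [← symMap_mul, ← Units.val_mul, inv_mul_cancel,
    Units.val_one, symMap_one], fun v => by rw [← symMap_mul, ← Units.val_mul, mul_inv_cancel,
    Units.val_one, symMap_one]⟩
  map_one' := Equiv.ext fun v => symMap_one v
  map_mul' g k := Equiv.ext fun v => symMap_mul g.1 k.1 v

@[simp] theorem symHom_apply (g : GL (Fin 2) F) (v : V F) : symHom g v = symMap g.1 v := rfl

/-- A matrix with nonzero determinant, as a unit. -/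
noncomputable def gl (M : Matrix (Fin 2) (Fin 2) F) (hM : M.det ≠ 0) : GL (Fin 2) F :=
  GeneralLinearGroup.mkOfDetNeZero M hM

theorem gl_val (M : Matrix (Fin 2) (Fin 2) F) (hM : M.det ≠ 0) : (gl M hM).1 = M := rfl

/-- Upper unitriangular. -/
noncomputable def glX (c : F) : GL (Fin 2) F := gl !![1, c; 0, 1] (by simp [Matrix.det_fin_two])

/-- Diagonal. -/
noncomputable def glD (u v : Fˣ) : GL (Fin 2) F :=
  gl !![(u : F), 0; 0, (v : F)] (by simp [Matrix.det_fin_two])

/-- The exchange. -/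
noncomputable def glW : GL (Fin 2) F := gl !![0, 1; 1, 0] (by simp [Matrix.det_fin_two])

theorem symHom_glX (c : F) : symHom (glX c) = Xp c := perm_ext fun z a b => by
  simp [glX, gl_val, symMap]

theorem symHom_glD (u v : Fˣ) : symHom (glD u v) = Dp u v := perm_ext fun z a b => by
  simp [glD, gl_val, symMap]

theorem symHom_glW : symHom (glW (F := F)) = Sw := perm_ext fun z a b => by
  simp [glW, gl_val, symMap]

theorem gl_bruhat (g : GL (Fin 2) F) :
    ∃ (r : F) (u v : Fˣ), g = glX r * glD u v ∨ ∃ r', g = glX r * glW * (glX r' * glD u v) := by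
  obtain ⟨a, b, c, d, hg⟩ : ∃ a b c d, g.1 = !![a, b; c, d] :=
    ⟨_, _, _, _, Matrix.eta_fin_two g.1⟩
  have hdet : a * d - b * c ≠ 0 := by
    have := (g.det).ne_zero
    rw [GeneralLinearGroup.val_det_apply, hg, Matrix.det_fin_two] at this
    simpa using this
  by_cases hc : c = 0
  · subst hc
    have hd : d ≠ 0 := fun e => hdet (by rw [e]; ring)
    have ha : a ≠ 0 := fun e => hdet (by rw [e]; ring)
    refine ⟨b / d, Units.mk0 a ha, Units.mk0 d hd, Or.inl (Units.ext ?_)⟩
    rw [hg, Units.val_mul, glX, glD, gl_val, gl_val]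
    ext i j
    fin_cases i <;> fin_cases j <;> simp [Matrix.mul_apply, Fin.sum_univ_two]
    field_simp
  · set e := b - a / c * d with he
    have he0 : e ≠ 0 := by
      intro h0
      refine hdet ?_
      rw [he, sub_eq_zero] at h0
      rw [h0]; field_simp; ring
    refine ⟨a / c, Units.mk0 c hc, Units.mk0 e he0, Or.inr ⟨d / e, Units.ext ?_⟩⟩
    rw [hg, Units.val_mul, Units.val_mul, Units.val_mul, glX, glX, glW, glD, gl_val, gl_val, gl_val, gl_val]
    ext i j
    fin_cases i <;> fin_cases j <;> simp [Matrix.mul_apply, Fin.sum_univ_two] <;> field_simp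
    rw [he]; field_simp; ring

variable [Finite F] {p n : ℕ} {W : Subgroup (Perm (V F))} (h : Hyp p n W)
  (hG : Graphs W = {fun _ => (0 : F)})
include h hG

theorem Hyp.range_symHom : (symHom : GL (Fin 2) F →* Perm (V F)).range = W := by
  apply le_antisymm
  · rintro _ ⟨g, rfl⟩
    obtain ⟨r, u, v, e | ⟨r', e⟩⟩ := gl_bruhat g <;> rw [e]
    · rw [map_mul, symHom_glX, symHom_glD]
      exact mul_mem (h.xmem _) (h.diag_mem hG _ _)
    · simp only [map_mul, symHom_glX, symHom_glD, symHom_glW]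
      exact mul_mem (mul_mem (h.xmem _) (h.Sw_mem hG)) (mul_mem (h.xmem _) (h.diag_mem hG _ _))
  · intro w hw
    obtain ⟨r, u, v, e | ⟨r', e⟩⟩ := h.normal_form hG hw <;> rw [e]
    · exact ⟨glX r * glD u v, by rw [map_mul, symHom_glX, symHom_glD]⟩
    · exact ⟨glX r * glW * (glX r' * glD u v), by
        simp only [map_mul, symHom_glX, symHom_glD, symHom_glW]⟩

omit hG in
/-- `g ↦ (ḡ, det(g)²)`. -/
noncomputable def pairHom :
    GL (Fin 2) F →* Matrix.ProjGenLinGroup (Fin 2) F × (powMonoidHom 2 : Fˣ →* Fˣ).range :=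
  MonoidHom.prod Matrix.ProjGenLinGroup.mk
    ((powMonoidHom 2 : Fˣ →* Fˣ).rangeRestrict.comp GeneralLinearGroup.det)

omit hG in
theorem Hyp.isSquare_or (x : F) : IsSquare x ∨ IsSquare (-x) := by
  haveI := Fintype.ofFinite F
  classical
  rcases eq_or_ne x 0 with rfl | hx
  · exact Or.inl ⟨0, by ring⟩
  by_cases hs : IsSquare x
  · exact Or.inl hs
  right
  have hm1 : ¬ IsSquare (-1 : F) := by
    rw [FiniteField.isSquare_neg_one_iff, Fintype.card_eq_nat_card, not_not]
    exact h.four'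
  have h2 : ringChar F ≠ 2 := fun e => h.two_ne (by
    haveI := ringChar.of_eq e; exact CharTwo.two_eq_zero)
  rw [← quadraticChar_one_iff_isSquare (neg_ne_zero.2 hx), ← neg_one_mul, map_mul,
    quadraticChar_neg_one_iff_not_isSquare.2 hm1, quadraticChar_neg_one_iff_not_isSquare.2 hs]
  norm_num

omit hG in
theorem Hyp.pairHom_surjective : Function.Surjective (pairHom (F := F)) := by
  rintro ⟨x, ⟨_, u, rfl⟩⟩
  obtain ⟨g, rfl⟩ := Matrix.ProjGenLinGroup.mk_surjective x
  set d : Fˣ := GeneralLinearGroup.det g with hd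
  obtain ⟨c, ε, hc, hε⟩ : ∃ (c : F) (ε : F), c ≠ 0 ∧ c * c * (d : F) = ε * u ∧ ε * ε = 1 := by
    rcases h.isSquare_or ((u : F) / d) with ⟨c, hc⟩ | ⟨c, hc⟩
    · refine ⟨c, 1, fun e => ?_, ?_, one_mul 1⟩
      · rw [e, mul_zero] at hc
        exact div_ne_zero u.ne_zero d.ne_zero hc
      · rw [← hc]; field_simp
    · refine ⟨c, -1, fun e => ?_, ?_, by ring⟩
      · rw [e, mul_zero, neg_eq_zero] at hc
        exact div_ne_zero u.ne_zero d.ne_zero hc
      · rw [← hc]; field_simp
  refine ⟨GeneralLinearGroup.scalar (Fin 2) (Units.mk0 c hc) * g, Prod.ext ?_ (Subtype.ext ?_)⟩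
  · show Matrix.ProjGenLinGroup.mk (_ * g) = _
    rw [map_mul, Matrix.ProjGenLinGroup.mk_scalar, one_mul]
  · show GeneralLinearGroup.det _ ^ 2 = u ^ 2
    refine Units.ext ?_
    rw [map_mul, GeneralLinearGroup.det_scalar, ← hd]
    simp only [Units.val_pow_eq_pow_val, Units.val_mul, Fintype.card_fin, Units.val_mk0]
    rw [show c ^ 2 * (d : F) = ε * u by rw [← hε.1]; ring, mul_pow, sq ε, hε.2, one_mul]

omit hG in
theorem Hyp.ker_pairHom : (pairHom (F := F)).ker = (symHom : GL (Fin 2) F →* Perm (V F)).ker := by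
  ext g
  obtain ⟨a, b, c, d, hg⟩ : ∃ a b c d, g.1 = !![a, b; c, d] :=
    ⟨_, _, _, _, Matrix.eta_fin_two g.1⟩
  constructor
  · intro hk
    have h1 : Matrix.ProjGenLinGroup.mk g = 1 := congrArg Prod.fst hk
    have h2 : GeneralLinearGroup.det g ^ 2 = 1 := congrArg (fun x => (x.2 : Fˣ)) hk
    obtain ⟨s, hs⟩ : ∃ s : Fˣ, g = GeneralLinearGroup.scalar (Fin 2) s := by
      have := Matrix.ProjGenLinGroup.mk_eq_one.1 h1
      rw [GeneralLinearGroup.center_eq_range_scalar] at this
      obtain ⟨s, hs⟩ := this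
      exact ⟨s, hs.symm⟩
    rw [hs, GeneralLinearGroup.det_scalar, Fintype.card_fin] at h2
    have h4 : ((s : F) ^ 2) * (s : F) ^ 2 = 1 := by
      have := congrArg Units.val h2
      simpa [sq] using this
    have hs2 : (s : F) ^ 2 = 1 := by
      rcases mul_self_eq_one_iff.1 h4 with e | e
      · exact e
      · exfalso
        haveI := Fintype.ofFinite F
        refine FiniteField.isSquare_neg_one_iff.1 ⟨(s : F), by rw [← e, sq]⟩ ?_
        rw [Fintype.card_eq_nat_card]; exact h.four'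
    rw [MonoidHom.mem_ker]
    refine perm_ext fun z a b => ?_
    rw [hs, symHom_apply, Perm.one_apply]
    simp [symMap]
    exact ⟨by rw [hs2, one_mul], by rw [← sq, hs2, one_mul], by rw [hs2, one_mul]⟩
  · intro hk
    have e1 := congrArg (fun w : Perm (V F) => w ((0 : F), (0 : F), (1 : F))) hk
    have e2 := congrArg (fun w : Perm (V F) => w ((1 : F), (0 : F), (0 : F))) hk
    have e3 := congrArg (fun w : Perm (V F) => w ((0 : F), (1 : F), (0 : F))) hk
    simp [symMap, hg] at e1 e2 e3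
    obtain ⟨hb, -, hd⟩ := e1
    obtain ⟨ha, -, hc⟩ := e2
    subst hb
    subst hc
    have had : a * d = 1 := by linear_combination e3.2.1
    have hda : d = a := by
      rcases ha with rfl | rfl
      · linear_combination had
      · linear_combination -had
    subst hda
    have hd0 : d ≠ 0 := left_ne_zero_of_mul (had ▸ one_ne_zero : d * d ≠ 0)
    refine Prod.ext ?_ (Subtype.ext ?_)
    · show Matrix.ProjGenLinGroup.mk g = 1
      rw [Matrix.ProjGenLinGroup.mk_eq_one, GeneralLinearGroup.center_eq_range_scalar]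
      refine ⟨Units.mk0 d hd0, Units.ext ?_⟩
      rw [hg]
      ext i j; fin_cases i <;> fin_cases j <;> simp
    · show GeneralLinearGroup.det g ^ 2 = 1
      refine Units.ext ?_
      rw [Units.val_pow_eq_pow_val, GeneralLinearGroup.val_det_apply, hg, Matrix.det_fin_two]
      simp [had]

theorem Hyp.shape : Nonempty (W ≃* Matrix.ProjGenLinGroup (Fin 2) F × Multiplicative (ZMod ((p ^ n - 1) / 2))) := by
  obtain ⟨m, hq, -, hQ⟩ := h.card_squares
  have hm : (p ^ n - 1) / 2 = m := by rw [← h.card, hq]; omega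
  rw [hm]
  haveI : NeZero m := ⟨hQ ▸ Nat.card_pos.ne'⟩
  haveI : IsCyclic (powMonoidHom 2 : Fˣ →* Fˣ).range := inferInstance
  have hQe : (powMonoidHom 2 : Fˣ →* Fˣ).range ≃* Multiplicative (ZMod m) :=
    mulEquivOfCyclicCardEq (by rw [hQ]; simp)
  exact ⟨((MulEquiv.subgroupCongr (h.range_symHom hG)).symm.trans
    ((QuotientGroup.quotientKerEquivRange symHom).symm.trans
      ((QuotientGroup.quotientMulEquivOfEq h.ker_pairHom.symm).trans
        (QuotientGroup.quotientKerEquivOfSurjective _ h.pairHom_surjective)))).trans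
    (MulEquiv.prodCongr (MulEquiv.refl _) hQe)⟩

omit hG in
/-- The conclusion, without normalisation. -/
theorem Hyp.main : Nonempty (W ≃* Matrix.ProjGenLinGroup (Fin 2) F × Multiplicative (ZMod ((p ^ n - 1) / 2))) := by
  obtain ⟨e, h', hG'⟩ := h.normalise
  obtain ⟨φ⟩ := h'.shape hG'
  exact ⟨(Subgroup.equivMapOfInjective W _ (MulEquiv.injective _)).trans φ⟩

end Cfsg.Agent.Transfer.SpFourLocal
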